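import Cfsg.Agent.H2.Bend.Core
import Cfsg.Agent.H298.UThree.Glob

/-!
# S3145, piece Quat: from the automorphism group to `N(K)`
-/

set_option autoImplicit false
set_option linter.unusedSectionVars false

namespace Cfsg.Agent.H2.Bend

open scoped commutatorElement
open Subgroup Cfsg.Agent.OddHalf.D4.Basic
open Cfsg.Agent.H298.UThree (Two Rep im mem_im exists_of_mem_im im_two comm_of_central)
open Cfsg.Agent.H298.UThree.Act (Amb)

universe u

section A

variable {A : Type u} [Group A] {I : Subgroup A}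

/-- facts on outer elements -/
structure Out (I : Subgroup A) : Prop where
  comm : ∀ P : Subgroup A, IsPGroup 2 ↥P → ⁅P, P⁆ ≤ I
  three : ∀ x y : A, x * x = 1 → y * y = 1 → x * y = y * x → x ∈ I ∨ y ∈ I ∨ x * y ∈ I
  cj : ∀ a : A, a * a = 1 → a ∉ I → ∀ x ∈ I, x * x = 1 → x ≠ 1 → x * a = a * x →
    ∃ i ∈ I, i * a * i⁻¹ = x * a

/-- 2-subgroups with at most one involution are abelian -/
def NR (A : Type u) [Group A] : Prop :=
  ∀ P : Subgroup A, IsPGroup 2 ↥P → (∀ a ∈ P, ∀ b ∈ P, orderOf a = 2 → orderOf b = 2 → a = b) →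
    ∀ a ∈ P, ∀ b ∈ P, a * b = b * a

end A

variable {G : Type u} [Group G] [Finite G] {K : Subgroup G} {A : Type u} [Group A] [Finite A]
  {π : ↥(normalizer (K : Set G)) →* A} {I : Subgroup A}

theorem inn_iff (r : Rep K π I) {x : G} (hx : x ∈ normalizer (K : Set G)) : Inn K x ↔ π ⟨x, hx⟩ ∈ I := by
  constructor
  · rintro ⟨k, hk, h⟩
    have h1 : π ⟨k, le_normalizer hk⟩ = π ⟨x, hx⟩ := r.eq_iff.mpr h
    rw [← h1]
    exact r.le _ hk
  · intro h
    obtain ⟨k, hk, h1⟩ := r.exists_mem h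
    exact ⟨k, hk, r.eq_iff.mp h1⟩

theorem comm_im {P : Subgroup G} (hP : P ≤ normalizer (K : Set G)) {x : G} (hx : x ∈ ⁅P, P⁆)
    (hN : x ∈ normalizer (K : Set G)) : π ⟨x, hN⟩ ∈ ⁅im π P, im π P⁆ := by
  have e1 : P = (P.subgroupOf (normalizer (K : Set G))).map (normalizer (K : Set G)).subtype := by
    rw [subgroupOf_map_subtype, inf_eq_left.mpr hP]
  rw [e1, ← map_commutator] at hx
  obtain ⟨y, hy, rfl⟩ := hx
  unfold im
  rw [← map_commutator]
  exact ⟨y, hy, rfl⟩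

/-- **the facts for `N(K)`** -/
theorem ax_of_rep (E : Ev K) (r : Rep K π I) (o : Out I) : Ax K := by
  refine ⟨?_, ?_, ?_⟩
  · intro P hP hP2 x hx
    have hxP : ⁅P, P⁆ ≤ P := by
      rw [commutator_le]
      intro x hx y hy
      rw [commutatorElement_def]
      exact mul_mem (mul_mem (mul_mem hx hy) (inv_mem hx)) (inv_mem hy)
    have hxN : x ∈ normalizer (K : Set G) := hP (hxP hx)
    rw [inn_iff r hxN]
    exact o.comm _ (im_two hP2) (comm_im hP hx hxN)
  · intro x hx y hy hx2 hy2 hxy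
    rw [inn_iff r hx, inn_iff r hy, inn_iff r (mul_mem hx hy)]
    have e1 : π ⟨x, hx⟩ * π ⟨x, hx⟩ = 1 := by
      rw [← map_mul]
      have : (⟨x, hx⟩ * ⟨x, hx⟩ : ↥(normalizer (K : Set G))) = 1 := Subtype.ext hx2
      rw [this, map_one]
    have e2 : π ⟨y, hy⟩ * π ⟨y, hy⟩ = 1 := by
      rw [← map_mul]
      have : (⟨y, hy⟩ * ⟨y, hy⟩ : ↥(normalizer (K : Set G))) = 1 := Subtype.ext hy2
      rw [this, map_one]
    have e3 : π ⟨x, hx⟩ * π ⟨y, hy⟩ = π ⟨y, hy⟩ * π ⟨x, hx⟩ := by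
      rw [← map_mul, ← map_mul]
      congr 1
      exact Subtype.ext hxy
    have e4 : π ⟨x * y, mul_mem hx hy⟩ = π ⟨x, hx⟩ * π ⟨y, hy⟩ := by
      rw [← map_mul]; rfl
    rw [e4]
    exact o.three _ _ e1 e2 e3
  · intro a ha ha2 hai x hx hx2 hx1 hxa
    have hxN : x ∈ normalizer (K : Set G) := le_normalizer hx
    have e1 : π ⟨a, ha⟩ * π ⟨a, ha⟩ = 1 := by
      rw [← map_mul]
      have : (⟨a, ha⟩ * ⟨a, ha⟩ : ↥(normalizer (K : Set G))) = 1 := Subtype.ext ha2
      rw [this, map_one]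
    have e2 : π ⟨x, hxN⟩ * π ⟨x, hxN⟩ = 1 := by
      rw [← map_mul]
      have : (⟨x, hxN⟩ * ⟨x, hxN⟩ : ↥(normalizer (K : Set G))) = 1 := Subtype.ext hx2
      rw [this, map_one]
    have e3 : π ⟨x, hxN⟩ * π ⟨a, ha⟩ = π ⟨a, ha⟩ * π ⟨x, hxN⟩ := by
      rw [← map_mul, ← map_mul]
      congr 1
      exact Subtype.ext hxa
    have e4 : π ⟨x, hxN⟩ ≠ 1 := by
      intro h
      rw [r.ker] at h
      exact E.not_mem h (ord_of hx2 hx1) hx
    obtain ⟨i, hi, h5⟩ := o.cj _ e1 (by rwa [← inn_iff r ha]) _ (r.le _ hx) e2 e4 e3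
    obtain ⟨k, hk, rfl⟩ := r.exists_mem hi
    rw [← map_mul, ← map_inv, ← map_mul, ← map_mul] at h5
    -- `k a k⁻¹ = x a ζ`
    have h6 := r.eq_iff.mp h5.symm
    have h6' : (x * a)⁻¹ * (k * a * k⁻¹) ∈ centralizer (K : Set G) := h6
    set ζ := (x * a)⁻¹ * (k * a * k⁻¹) with hζ
    have hka : k * a * k⁻¹ = x * a * ζ := by rw [hζ]; group
    have hζK : ζ ∈ K := by
      have h7 : a⁻¹ * (x⁻¹ * k) * a ∈ K := by
        have := (mem_normalizer_iff.mp (inv_mem ha) (x⁻¹ * k)).mp (mul_mem (inv_mem hx) hk)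
        rwa [inv_inv] at this
      have e : ζ = a⁻¹ * (x⁻¹ * k) * a * k⁻¹ := by rw [hζ]; group
      rw [e]
      exact mul_mem h7 (inv_mem hk)
    obtain ⟨m, hm, hpm⟩ := E.w1 ζ hζK h6'
    obtain ⟨j, hj, -⟩ := exists_root hm hpm
    set η := ζ ^ j with hη
    have hηK : η ∈ K := pow_mem hζK j
    -- `t = x a` inverts `ζ`
    have ht2 : x * a * (x * a) = 1 := by
      calc x * a * (x * a) = x * (a * x) * a := by group
        _ = (x * x) * (a * a) := by rw [← hxa]; group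
        _ = 1 := by rw [hx2, ha2, one_mul]
    have htζ : x * a * ζ * (x * a * ζ) = 1 := by
      rw [← hka]
      have e : k * a * k⁻¹ * (k * a * k⁻¹) = k * (a * a) * k⁻¹ := by group
      rw [e, ha2]; group
    set t := x * a with ht
    have hti : t⁻¹ = t := inv_eq_of_mul_eq_one_left ht2
    have h7 : t * ζ * t⁻¹ = ζ⁻¹ := by
      rw [hti, eq_inv_iff_mul_eq_one]
      calc t * ζ * t * ζ = t * ζ * (t * ζ) := by group
        _ = 1 := htζ
    have h8 : t * η * t⁻¹ = η⁻¹ := by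
      rw [hη, ← conj_pow, h7, inv_pow]
    refine ⟨η * k, mul_mem hηK hk, ?_⟩
    have h9 : η * k * a * (η * k)⁻¹ = η * (k * a * k⁻¹) * η⁻¹ := by group
    rw [h9, hka]
    have h10 : η * t = t * η⁻¹ := by
      rw [← h8]
      calc η * t = (t * t) * η * t := by rw [ht2, one_mul]
        _ = t * (t * η * t) := by group
        _ = t * (t * η * t⁻¹) := by rw [hti]
    have h11 : η⁻¹ * η⁻¹ * ζ = 1 := by
      have : η * η = ζ := hj
      rw [← this]; group
    have h12 : ζ * η⁻¹ = η⁻¹ * ζ := by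
      have : η * η = ζ := hj
      rw [← this]; group
    calc η * (t * ζ) * η⁻¹ = (η * t) * (ζ * η⁻¹) := by group
      _ = t * η⁻¹ * (η⁻¹ * ζ) := by rw [h10, h12]
      _ = t * (η⁻¹ * η⁻¹ * ζ) := by group
      _ = t := by rw [h11, mul_one]

/-- nonabelian 2-groups with one involution do not act faithfully -/
theorem nr_of_rep (r : Rep K π I) (h : NR A) {P : Subgroup G} (hP : P ≤ normalizer (K : Set G))
    (hP2 : IsPGroup 2 ↥P) (hPC : ∀ a ∈ P, a ∈ centralizer (K : Set G) → a = 1)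
    (hu : ∀ a ∈ P, ∀ b ∈ P, orderOf a = 2 → orderOf b = 2 → a = b) : ∀ a ∈ P, ∀ b ∈ P, a * b = b * a := by
  intro a ha b hb
  have key : ∀ x (hx : x ∈ P), orderOf (π ⟨x, hP hx⟩) = 2 → orderOf x = 2 := by
    intro x hx h1
    apply ord_of
    · apply hPC _ (mul_mem hx hx)
      have h2 := sq_of h1
      rw [← map_mul, r.ker] at h2
      exact h2
    · rintro rfl
      have : (⟨1, hP hx⟩ : ↥(normalizer (K : Set G))) = 1 := rfl
      rw [this, map_one, orderOf_one] at h1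
      omega
  have h1 := h (im π P) (im_two hP2) (by
    intro x hx y hy hx2 hy2
    obtain ⟨x, hx', hxN, rfl⟩ := exists_of_mem_im hx
    obtain ⟨y, hy', hyN, rfl⟩ := exists_of_mem_im hy
    have h2 := hu x hx' y hy' (key x hx' hx2) (key y hy' hy2)
    subst h2
    rfl) _ (mem_im ha (hP ha)) _ (mem_im hb (hP hb))
  rw [r.comm_iff] at h1
  have h2 := hPC _ (mul_mem (mul_mem (mul_mem ha hb) (inv_mem ha)) (inv_mem hb)) h1
  rwa [mul_inv_eq_one, mul_inv_eq_iff_eq_mul] at h2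

/-- **the inner case** if nonabelian 2-groups with one involution do not act faithfully -/
theorem not_inn0 (E : Ev0 K) (r : Rep K π I) (h : NR A) {z : G}
    (hz : z ∈ centralizer (K : Set G)) (hz2 : orderOf z = 2) (g : G) (hne : g * z * g⁻¹ ≠ z)
    (hc : g * z * g⁻¹ * z = z * (g * z * g⁻¹))
    (hd : ∃ x ∈ K, x * x = 1 ∧ (g * z * g⁻¹ = x ∨ g * z * g⁻¹ = x * z)) : False := by
  have hzz := sq_of hz2
  have hw2 : g * z * g⁻¹ * (g * z * g⁻¹) = 1 := by
    have e : g * z * g⁻¹ * (g * z * g⁻¹) = g * (z * z) * g⁻¹ := by group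
    rw [e, hzz]; group
  obtain ⟨T, hT, hzT, hwT, hQ⟩ := E.exists_Q hz hz2 hw2 hc
  have hzQ : z ∈ T ⊓ centralizer (K : Set G) := mem_inf.mpr ⟨hzT, hz⟩
  set Q := T ⊓ centralizer (K : Set G) with hQd
  obtain ⟨x, hx, hx2, hdec⟩ := hd
  have hQw : ∀ q ∈ Q, q * (g * z * g⁻¹) = g * z * g⁻¹ * q := by
    intro q hq
    have h1 : x * q = q * x := mem_centralizer_iff.mp (hQ.le hq) x hx
    have h2 := E.central hQ.two hQ.le hzQ hq hz2
    rcases hdec with h | h
    · rw [h, h1]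
    · rw [h]
      calc q * (x * z) = q * x * z := by group
        _ = x * (q * z) := by rw [← h1]; group
        _ = x * z * q := by rw [h2]; group
  have hPN : Q.map (MulAut.conj g⁻¹).toMonoidHom ≤ normalizer (K : Set G) := by
    rintro _ ⟨q, hq, rfl⟩
    show g⁻¹ * q * g⁻¹⁻¹ ∈ _
    apply E.mem_N hz hz2
    have := hQw q hq
    calc g⁻¹ * q * g⁻¹⁻¹ * z = g⁻¹ * (q * (g * z * g⁻¹)) * g := by group
      _ = g⁻¹ * (g * z * g⁻¹ * q) * g := by rw [this]
      _ = z * (g⁻¹ * q * g⁻¹⁻¹) := by group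
  have hv : g⁻¹ * z * g * z = z * (g⁻¹ * z * g) := by
    calc g⁻¹ * z * g * z = g⁻¹ * (z * (g * z * g⁻¹)) * g := by group
      _ = g⁻¹ * (g * z * g⁻¹ * z) * g := by rw [hc]
      _ = z * (g⁻¹ * z * g) := by group
  have hcomm := nr_of_rep r h hPN (hQ.two.map _) (by
    intro a ha haC
    by_contra ha1
    -- an involution of `Q` in `C(K)^g`
    set P := Q.map (MulAut.conj g⁻¹).toMonoidHom with hP
    have hne' : P ⊓ centralizer (K : Set G) ≠ ⊥ := by
      intro h1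
      have : a ∈ P ⊓ centralizer (K : Set G) := mem_inf.mpr ⟨ha, haC⟩
      rw [h1] at this
      exact ha1 (mem_bot.mp this)
    obtain ⟨u, hu, hu2⟩ := exists_invol_of_two ((hQ.two.map _).to_le (inf_le_left : P ⊓ _ ≤ P)) hne'
    obtain ⟨q, hq, hqu⟩ := (mem_inf.mp hu).1
    have hqu' : g⁻¹ * q * g = u := by
      rw [← hqu]
      show _ = g⁻¹ * q * g⁻¹⁻¹
      rw [inv_inv]
    have hq2 : orderOf q = 2 := by
      have h1 := orderOf_conj g⁻¹ q
      rw [inv_inv, hqu', hu2] at h1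
      exact h1.symm
    have hqz := E.uniq hQ.two hQ.le hq hzQ hq2 hz2
    subst hqz
    have h3 := E.rk u (mem_inf.mp hu).2 q hz hu2 hz2 (by rw [← hqu']; exact hv)
    apply hne
    rw [← hqu'] at h3
    calc g * q * g⁻¹ = g * (g⁻¹ * q * g) * g⁻¹ := by rw [h3]
      _ = q := by group) (by
    rintro _ ⟨a, ha, rfl⟩ _ ⟨b, hb, rfl⟩ ha2 hb2
    have h1 : orderOf a = 2 := by
      have := orderOf_conj g⁻¹ a
      rw [← this]; exact ha2
    have h2 : orderOf b = 2 := by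
      have := orderOf_conj g⁻¹ b
      rw [← this]; exact hb2
    rw [E.uniq hQ.two hQ.le ha hb h1 h2])
  obtain ⟨a, ha, b, hb, hab⟩ := E.na Q hQ
  apply hab
  have h1 := hcomm _ ⟨a, ha, rfl⟩ _ ⟨b, hb, rfl⟩
  rw [← map_mul, ← map_mul] at h1
  exact (MulAut.conj g⁻¹).injective h1

theorem not_inn (E : Ev K) (r : Rep K π I) (h : NR A) {z : G}
    (hz : z ∈ centralizer (K : Set G)) (hz2 : orderOf z = 2) (g : G) (hne : g * z * g⁻¹ ≠ z)
    (hc : g * z * g⁻¹ * z = z * (g * z * g⁻¹)) : ¬ Inn K (g * z * g⁻¹) := by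
  intro hi
  have hw2 : g * z * g⁻¹ * (g * z * g⁻¹) = 1 := by
    have e : g * z * g⁻¹ * (g * z * g⁻¹) = g * (z * z) * g⁻¹ := by group
    rw [e, sq_of hz2]; group
  exact not_inn0 E.toEv0 r h hz hz2 g hne hc (E.exists_dec hz hz2 hw2 hc hi)

/-- the representation -/
theorem exists_rep0 (hq : Cfsg.IsQuasisimple ↥K) :
    ∃ (A : Type u) (_ : Group A) (_ : Finite A) (π : ↥(normalizer (K : Set G)) →* A) (I : Subgroup A),
      Rep K π I ∧ Nonempty ((↥K ⧸ center ↥K) ≃* ↥I) := by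
  set N := normalizer (K : Set G) with hN
  let C' : Subgroup ↥N := (centralizer (K : Set G)).subgroupOf N
  have hC' : C'.Normal := by
    refine ⟨?_⟩
    intro x hx g
    rw [mem_subgroupOf] at hx ⊢
    show (g : G) * x * (g : G)⁻¹ ∈ _
    rw [mem_centralizer_iff] at hx ⊢
    intro k hk
    have h1 : (g : G)⁻¹ * k * g ∈ K := by
      have := (mem_normalizer_iff.mp (inv_mem g.2) k).mp hk
      rwa [inv_inv] at this
    have h2 := hx _ h1
    calc k * ((g : G) * x * (g : G)⁻¹) = g * ((g : G)⁻¹ * k * g * x) * (g : G)⁻¹ := by group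
      _ = g * (x * ((g : G)⁻¹ * k * g)) * (g : G)⁻¹ := by rw [h2]
      _ = (g : G) * x * (g : G)⁻¹ * k := by group
  have hKN : K ≤ N := le_normalizer
  let π : ↥N →* (↥N ⧸ C') := QuotientGroup.mk' C'
  let I : Subgroup (↥N ⧸ C') := (K.subgroupOf N).map π
  have hker : ∀ x : ↥N, π x = 1 ↔ (x : G) ∈ centralizer (K : Set G) := by
    intro x
    have : π x = 1 ↔ x ∈ C' := QuotientGroup.eq_one_iff x
    rw [this]
    exact mem_subgroupOf
  have hle : ∀ x : ↥N, (x : G) ∈ K → π x ∈ I := fun x hx => ⟨x, mem_subgroupOf.mpr hx, rfl⟩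
  have hex : ∀ i ∈ I, ∃ x : ↥N, (x : G) ∈ K ∧ π x = i := by
    rintro _ ⟨x, hx, rfl⟩
    exact ⟨x, mem_subgroupOf.mp hx, rfl⟩
  have hamb : Amb I := by
    constructor
    · intro a i hi
      obtain ⟨g, rfl⟩ := QuotientGroup.mk'_surjective C' a
      obtain ⟨x, hx, rfl⟩ := hex i hi
      have h1 : QuotientGroup.mk' C' g * π x * (QuotientGroup.mk' C' g)⁻¹ = π (g * x * g⁻¹) := by
        rw [map_mul, map_mul, map_inv]
      rw [h1]
      apply hle
      exact (mem_normalizer_iff.mp g.2 (x : G)).mp hx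
    · intro x hx
      obtain ⟨g, rfl⟩ := QuotientGroup.mk'_surjective C' x
      have h1 : (g : G) ∈ centralizer (K : Set G) := by
        apply comm_of_central hq.1.commutator_eq_top
        intro k hk
        have hmem : (g : G) * k * (g : G)⁻¹ ∈ K := (mem_normalizer_iff.mp g.2 k).mp hk
        refine ⟨mul_mem hmem (inv_mem hk), ?_⟩
        have h2 := hx (π ⟨k, hKN hk⟩) (hle _ hk)
        have h3 : π (g * ⟨k, hKN hk⟩ * g⁻¹ * ⟨k, hKN hk⟩⁻¹) = 1 := by
          have h2' : π g * π ⟨k, hKN hk⟩ = π ⟨k, hKN hk⟩ * π g := h2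
          rw [map_mul, map_mul, map_mul, map_inv, map_inv, h2']
          group
        exact (hker _).mp h3
      exact (hker g).mpr h1
  refine ⟨↥N ⧸ C', inferInstance, inferInstance, π, I, ⟨hker, hle, hex, hamb⟩, ?_⟩
  let f : ↥K →* ↥I :=
    { toFun := fun k => ⟨π ⟨k, hKN k.2⟩, hle _ k.2⟩
      map_one' := Subtype.ext (map_one π)
      map_mul' := fun k l => Subtype.ext (by
        show π ⟨(k : G) * l, _⟩ = π ⟨k, _⟩ * π ⟨l, _⟩
        rw [← map_mul]
        rfl) }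
  have hf : Function.Surjective f := by
    rintro ⟨i, hi⟩
    obtain ⟨x, hx, rfl⟩ := hex i hi
    exact ⟨⟨x, hx⟩, rfl⟩
  have hfk : center ↥K = f.ker := by
    ext k
    rw [MonoidHom.mem_ker]
    have h1 : f k = 1 ↔ π ⟨k, hKN k.2⟩ = 1 := by
      constructor
      · intro h; exact congrArg Subtype.val h
      · intro h; exact Subtype.ext h
    rw [h1, hker, Subgroup.mem_center_iff, mem_centralizer_iff]
    constructor
    · intro h y hy
      exact congrArg Subtype.val (h ⟨y, hy⟩)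
    · intro h y
      exact Subtype.ext (h y y.2)
  exact ⟨(QuotientGroup.quotientMulEquivOfEq hfk).trans (QuotientGroup.quotientKerEquivOfSurjective f hf)⟩

end Cfsg.Agent.H2.Bend
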