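import Cfsg.Agent.OddHalf.D4.EvenCyc
import Cfsg.Agent.OddHalf.D4.EvenPair
import Cfsg.Agent.H298.UThree.Setup

/-!
# S3145, piece Quat: the group theoretic part

`K` a standard subgroup with centre of odd order, `m₂(C(K)) = 1`, the Sylow 2-subgroups of `C(K)` not abelian,
`z` an involution of `C(K)`.

* `Ax K` : facts on the automorphism group of `K`;
* `false_of_outer` : if no conjugate `w ≠ z` of `z` commuting with `z` is inner on `K`, `G` is not simple;
* `not_inn` : no such `w` is inner, if nonabelian 2-groups with a unique involution do not act faithfully on `K`.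
-/

set_option autoImplicit false
set_option linter.unusedSectionVars false

namespace Cfsg.Agent.H2.Bend

open scoped commutatorElement
open Subgroup Cfsg.Agent.OddHalf.D4.Basic
open Cfsg.Agent.OddHalf.D4.CommConj (Tight cj mem_cj cj_mul card_cj cj_eq_of_mem_normalizer
  mem_normalizer_of_cj_eq mem_cj_mul exists_norm_elt)
open Cfsg.Agent.OddHalf.D4.EvenPair (cent_le)
open Cfsg.Agent.H298.UThree (Two)

universe u

variable {G : Type u} [Group G] {K : Subgroup G}

/-- `x` induces an inner automorphism of `K` -/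
def Inn (K : Subgroup G) (x : G) : Prop := ∃ k ∈ K, k⁻¹ * x ∈ centralizer (K : Set G)

/-- the setting -/
structure Ev0 (K : Subgroup G) : Prop where
  tt : Tight (centralizer (K : Set G)) (normalizer (K : Set G))
  rk : ∀ a ∈ centralizer (K : Set G), ∀ b ∈ centralizer (K : Set G), orderOf a = 2 → orderOf b = 2 →
    a * b = b * a → a = b
  na : ∀ Q : Subgroup G, IsSyl Q (centralizer (K : Set G)) → ∃ a ∈ Q, ∃ b ∈ Q, a * b ≠ b * a

/-- the setting, if the centre has odd order -/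
structure Ev (K : Subgroup G) : Prop extends Ev0 K where
  w1 : ∀ x ∈ K, x ∈ centralizer (K : Set G) → ∃ m, Odd m ∧ x ^ m = 1
  even : Even (Nat.card ↥K)

/-- facts on the action of `N(K)` -/
structure Ax (K : Subgroup G) : Prop where
  comm : ∀ P ≤ normalizer (K : Set G), IsPGroup 2 ↥P → ∀ x ∈ ⁅P, P⁆, Inn K x
  three : ∀ x ∈ normalizer (K : Set G), ∀ y ∈ normalizer (K : Set G), x * x = 1 → y * y = 1 → x * y = y * x →
    Inn K x ∨ Inn K y ∨ Inn K (x * y)
  cj : ∀ a ∈ normalizer (K : Set G), a * a = 1 → ¬ Inn K a → ∀ x ∈ K, x * x = 1 → x ≠ 1 → x * a = a * x →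
    ∃ k ∈ K, k * a * k⁻¹ = x * a

theorem sq_of {x : G} (h : orderOf x = 2) : x * x = 1 := by rw [← pow_two, ← h, pow_orderOf_eq_one]

theorem ord_of {x : G} (h : x * x = 1) (h1 : x ≠ 1) : orderOf x = 2 := orderOf_eq_prime (by rw [pow_two, h]) h1

theorem ne_one_of {x : G} (h : orderOf x = 2) : x ≠ 1 := by
  rintro rfl
  rw [orderOf_one] at h
  omega

/-- two commuting involutions generate a 2-group -/
theorem two_closure {x y : G} (hx2 : x * x = 1) (hy2 : y * y = 1) (hxy : x * y = y * x) :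
    IsPGroup 2 ↥(closure ({x, y} : Set G)) := by
  have hc : ∀ u ∈ closure ({x, y} : Set G), ∀ v ∈ closure ({x, y} : Set G), u * v = v * u := by
    intro u hu v hv
    have h1 := closure_le_centralizer_centralizer ({x, y} : Set G) hu
    have hxy' : (closure ({x, y} : Set G)) ≤ centralizer ({x, y} : Set G) := by
      rw [closure_le]
      rintro w (rfl | rfl)
      · show w ∈ centralizer _
        rw [mem_centralizer_iff]
        rintro v (rfl | rfl)
        · rfl
        · exact hxy.symm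
      · show w ∈ centralizer _
        rw [mem_centralizer_iff]
        rintro v (rfl | rfl)
        · exact hxy
        · rfl
    exact (mem_centralizer_iff.mp h1 v (hxy' hv)).symm
  have h1 : ∀ w ∈ closure ({x, y} : Set G), w * w = 1 := by
    intro w hw
    induction hw using closure_induction with
    | mem v hv =>
      rcases hv with rfl | rfl
      · exact hx2
      · exact hy2
    | one => rw [one_mul]
    | mul u v hu hv h1 h2 =>
      have := hc u hu v hv
      calc u * v * (u * v) = u * (v * u) * v := by group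
        _ = (u * u) * (v * v) := by rw [← this]; group
        _ = 1 := by rw [h1, h2, one_mul]
    | inv u hu h1 =>
      rw [← mul_inv_rev, h1, inv_one]
  rintro ⟨w, hw⟩
  exact ⟨1, Subtype.ext (by
    show w ^ 2 ^ 1 = 1
    rw [pow_one, pow_two]
    exact h1 w hw)⟩

/-- an element of odd order has a square root among its powers -/
theorem exists_root {x : G} {m : ℕ} (hm : Odd m) (h : x ^ m = 1) :
    ∃ k : ℕ, x ^ k * x ^ k = x ∧ (x ^ k) ^ m = 1 := by
  obtain ⟨j, hj⟩ := hm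
  refine ⟨j + 1, ?_, ?_⟩
  · rw [← pow_add]
    have e : j + 1 + (j + 1) = m + 1 := by omega
    rw [e, pow_succ, h, one_mul]
  · rw [← pow_mul, mul_comm, pow_mul, h, one_pow]

namespace Ev0

variable (E : Ev0 K)

include E

theorem mem_N {z x : G} (hz : z ∈ centralizer (K : Set G)) (hz2 : orderOf z = 2) (h : x * z = z * x) :
    x ∈ normalizer (K : Set G) := cent_le E.tt hz hz2 h

/-- all involutions of a 2-subgroup of `C(K)` are equal -/
theorem uniq [Finite G] {Q : Subgroup G} (hQ : IsPGroup 2 ↥Q) (hQC : Q ≤ centralizer (K : Set G)) {a b : G}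
    (ha : a ∈ Q) (hb : b ∈ Q) (ha2 : orderOf a = 2) (hb2 : orderOf b = 2) : a = b := by
  have hne : Q ≠ ⊥ := by
    rintro rfl
    exact ne_one_of ha2 (mem_bot.mp ha)
  obtain ⟨z, hz, hz2, hzc⟩ := exists_central_invol hQ le_rfl hne (fun t ht n hn =>
    mul_mem (mul_mem ht hn) (inv_mem ht))
  rw [E.rk a (hQC ha) z (hQC hz) ha2 hz2 (hzc a ha), E.rk b (hQC hb) z (hQC hz) hb2 hz2 (hzc b hb)]

/-- the involution is central -/
theorem central [Finite G] {Q : Subgroup G} (hQ : IsPGroup 2 ↥Q) (hQC : Q ≤ centralizer (K : Set G)) {z q : G}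
    (hz : z ∈ Q) (hq : q ∈ Q) (hz2 : orderOf z = 2) : q * z = z * q := by
  have h1 := E.uniq hQ hQC (mul_mem (mul_mem hq hz) (inv_mem hq)) hz (by rw [orderOf_conj, hz2]) hz2
  rw [mul_inv_eq_iff_eq_mul] at h1
  exact h1

/-- the involution is a commutator -/
theorem mem_comm [Finite G] {Q : Subgroup G} (hQ : IsSyl Q (centralizer (K : Set G))) {z : G}
    (hz : z ∈ Q) (hz2 : orderOf z = 2) : z ∈ ⁅Q, Q⁆ := by
  obtain ⟨a, ha, b, hb, hab⟩ := E.na Q hQ
  have hle : ⁅Q, Q⁆ ≤ Q := by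
    rw [commutator_le]
    intro x hx y hy
    rw [commutatorElement_def]
    exact mul_mem (mul_mem (mul_mem hx hy) (inv_mem hx)) (inv_mem hy)
  have hne : ⁅Q, Q⁆ ≠ ⊥ := by
    intro h
    apply hab
    have h1 : ⁅a, b⁆ ∈ ⁅Q, Q⁆ := commutator_mem_commutator ha hb
    rw [h, mem_bot, commutatorElement_eq_one_iff_mul_comm] at h1
    exact h1
  obtain ⟨u, hu, hu2⟩ := exists_invol_of_two (hQ.two.to_le hle) hne
  rw [E.uniq hQ.two hQ.le hz (hle hu) hz2 hu2]
  exact hu

/-- a Sylow 2-subgroup normalised by `w` -/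
theorem exists_Q [Finite G] {z w : G} (hz : z ∈ centralizer (K : Set G)) (hz2 : orderOf z = 2)
    (hw2 : w * w = 1) (hwz : w * z = z * w) : ∃ T : Subgroup G, IsSyl T (normalizer (K : Set G)) ∧ z ∈ T ∧ w ∈ T ∧
      IsSyl (T ⊓ centralizer (K : Set G)) (centralizer (K : Set G)) := by
  have h1 := two_closure (sq_of hz2) hw2 hwz.symm
  obtain ⟨T, hT, hle⟩ := exists_isSyl (M := normalizer (K : Set G)) h1 (by
    rw [closure_le]
    rintro x (rfl | rfl)
    · exact E.mem_N hz hz2 rfl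
    · exact E.mem_N hz hz2 hwz)
  refine ⟨T, hT, hle (subset_closure (Set.mem_insert _ _)),
    hle (subset_closure (Set.mem_insert_of_mem _ rfl)), ?_⟩
  apply hT.inf E.tt.le
  intro t ht
  rw [mem_normalizer_iff]
  intro x
  constructor
  · intro h
    exact E.tt.norm t (hT.le ht) x h
  · intro h
    have := E.tt.norm t⁻¹ (inv_mem (hT.le ht)) _ h
    have e : t⁻¹ * (t * x * t⁻¹) * t⁻¹⁻¹ = x := by group
    rwa [e] at this

end Ev0

namespace Ev

variable (E : Ev K)

include E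

/-- `K ∩ C(K)` has odd order -/
theorem not_mem {z : G} (hz : z ∈ centralizer (K : Set G)) (hz2 : orderOf z = 2) : z ∉ K := by
  intro hzK
  obtain ⟨m, hm, h⟩ := E.w1 z hzK hz
  have h1 := orderOf_dvd_of_pow_eq_one h
  rw [hz2] at h1
  rw [Nat.odd_iff] at hm
  omega

/-- inner involutions -/
theorem exists_dec {z t : G} (hz : z ∈ centralizer (K : Set G)) (hz2 : orderOf z = 2) (ht : t * t = 1)
    (htz : t * z = z * t) (h : Inn K t) : ∃ x ∈ K, x * x = 1 ∧ (t = x ∨ t = x * z) := by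
  obtain ⟨k, hk, hy⟩ := h
  have hky : k * (k⁻¹ * t) = k⁻¹ * t * k := mem_centralizer_iff.mp hy k hk
  set y := k⁻¹ * t with hyd
  have hty : t = k * y := by rw [hyd]; group
  have h1 : k * k * (y * y) = 1 := by
    calc k * k * (y * y) = k * (k * y) * y := by group
      _ = k * (y * k) * y := by rw [hky]
      _ = k * y * (k * y) := by group
      _ = 1 := by rw [← hty, ht]
  -- `k² ∈ K ∩ C(K)`
  have hkk : k * k = (y * y)⁻¹ := by rw [← mul_eq_one_iff_eq_inv, h1]
  obtain ⟨m, hm, hpm⟩ := E.w1 (k * k) (mul_mem hk hk) (by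
    rw [hkk]; exact inv_mem (mul_mem hy hy))
  obtain ⟨j, hj, -⟩ := exists_root hm hpm
  set e := (k * k) ^ j with he
  have heK : e ∈ K := pow_mem (mul_mem hk hk) j
  have heC : e ∈ centralizer (K : Set G) := by
    rw [he, hkk]
    exact pow_mem (inv_mem (mul_mem hy hy)) j
  have hek : e * k = k * e := (mem_centralizer_iff.mp heC k hk).symm
  have hey : e * y = y * e := (mem_centralizer_iff.mp hy e heK)
  have hx2 : k * e⁻¹ * (k * e⁻¹) = 1 := by
    have h2 : k * e⁻¹ = e⁻¹ * k := by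
      rw [eq_inv_mul_iff_mul_eq, ← mul_assoc, hek, mul_inv_cancel_right]
    calc k * e⁻¹ * (k * e⁻¹) = k * e⁻¹ * (e⁻¹ * k) := by rw [h2]
      _ = k * (e * e)⁻¹ * k := by group
      _ = k * (k * k)⁻¹ * k := by rw [hj]
      _ = 1 := by group
  have hy2 : e * y * (e * y) = 1 := by
    calc e * y * (e * y) = e * (y * e) * y := by group
      _ = (e * e) * (y * y) := by rw [← hey]; group
      _ = 1 := by rw [hj, h1]
  have hyz : e * y * z = z * (e * y) := by
    have h2 : k * z = z * k := mem_centralizer_iff.mp hz k hk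
    have h3 : e * z = z * e := mem_centralizer_iff.mp hz e heK
    have h4 : y * z = z * y := by
      rw [hyd]
      calc k⁻¹ * t * z = k⁻¹ * (z * t) := by rw [← htz]; group
        _ = k⁻¹ * (z * k) * k⁻¹ * t := by group
        _ = z * (k⁻¹ * t) := by rw [← h2]; group
    calc e * y * z = e * (y * z) := by group
      _ = (e * z) * y := by rw [h4]; group
      _ = z * (e * y) := by rw [h3]; group
  refine ⟨k * e⁻¹, mul_mem hk (inv_mem heK), hx2, ?_⟩
  by_cases h1 : e * y = 1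
  · left
    rw [hty]
    have : y = e⁻¹ := by
      rw [eq_inv_iff_mul_eq_one, ← hey, h1]
    rw [this]
  · right
    have h2 := E.rk _ (mul_mem heC hy) z hz (ord_of hy2 h1) hz2 hyz
    rw [hty, ← h2]; group

/-- an involution of `K` commuting with `v` -/
theorem exists_r [Finite G] {v : G} (hv : v ∈ normalizer (K : Set G)) (hv2 : v * v = 1) :
    ∃ r ∈ K, orderOf r = 2 ∧ r * v = v * r := by
  have h1 : IsPGroup 2 ↥(zpowers v) := by
    by_cases hv1 : v = 1
    · subst hv1
      rw [zpowers_one_eq_bot]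
      exact IsPGroup.of_bot
    · apply IsPGroup.of_card (n := 1)
      rw [Nat.card_zpowers, ord_of hv2 hv1, pow_one]
  obtain ⟨T, hT, hle⟩ := exists_isSyl (M := normalizer (K : Set G)) h1 (by rwa [zpowers_le])
  have hTK : IsSyl (T ⊓ K) K := by
    apply hT.inf le_normalizer
    exact hT.le
  have hne : T ⊓ K ≠ ⊥ := by
    intro h
    obtain ⟨u, hu, hu2⟩ := exists_invol_of_even E.even
    have h2 : IsPGroup 2 ↥(zpowers u) := by
      apply IsPGroup.of_card (n := 1)
      rw [Nat.card_zpowers, hu2, pow_one]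
    obtain ⟨m, -, hm⟩ := hTK.conj_into h2 (by rwa [zpowers_le])
    have h3 := hm u (mem_zpowers u)
    rw [h, mem_bot] at h3
    have h4 := orderOf_conj m u
    rw [h3, hu2, orderOf_one] at h4
    omega
  obtain ⟨r, hr, hr2, hrc⟩ := exists_central_invol hT.two inf_le_left hne (fun t ht n hn =>
    mem_inf.mpr ⟨mul_mem (mul_mem ht (mem_inf.mp hn).1) (inv_mem ht),
      (mem_normalizer_iff.mp (hT.le ht) n).mp (mem_inf.mp hn).2⟩)
  exact ⟨r, (mem_inf.mp hr).2, hr2, (hrc v (hle (mem_zpowers v))).symm⟩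

/-- if `w = z^g` commutes with `Q`, `g⁻¹ z g` is inner -/
theorem inn_of_cent [Finite G] (X : Ax K) {z g : G} (hz : z ∈ centralizer (K : Set G)) (hz2 : orderOf z = 2)
    {Q : Subgroup G} (hQ : IsSyl Q (centralizer (K : Set G))) (hzQ : z ∈ Q)
    (hc : ∀ q ∈ Q, q * (g * z * g⁻¹) = g * z * g⁻¹ * q) : Inn K (g⁻¹ * z * g) := by
  have h1 : Q.map (MulAut.conj g⁻¹).toMonoidHom ≤ normalizer (K : Set G) := by
    rintro _ ⟨q, hq, rfl⟩
    show g⁻¹ * q * g⁻¹⁻¹ ∈ _
    apply E.mem_N hz hz2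
    have := hc q hq
    calc g⁻¹ * q * g⁻¹⁻¹ * z = g⁻¹ * (q * (g * z * g⁻¹)) * g := by group
      _ = g⁻¹ * (g * z * g⁻¹ * q) * g := by rw [this]
      _ = z * (g⁻¹ * q * g⁻¹⁻¹) := by group
  apply X.comm _ h1 (hQ.two.map _)
  rw [← map_commutator]
  exact ⟨z, E.mem_comm hQ hzQ hz2, by
    show g⁻¹ * z * g⁻¹⁻¹ = _
    rw [inv_inv]⟩

/-- some element of `Q` moves `w` to `z w` -/
theorem exists_y [Finite G] {T : Subgroup G} {z w : G} (hz : z ∈ centralizer (K : Set G)) (hz2 : orderOf z = 2)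
    (hT : IsSyl T (normalizer (K : Set G))) (hzT : z ∈ T) (hwT : w ∈ T) (hw2 : w * w = 1)
    (hne : ∃ q ∈ T ⊓ centralizer (K : Set G), q * w ≠ w * q) :
    ∃ y ∈ T ⊓ centralizer (K : Set G), y * w * y⁻¹ = z * w := by
  set Q := T ⊓ centralizer (K : Set G) with hQd
  have hQT : Q ≤ T := inf_le_left
  have hQn : ∀ s ∈ T, ∀ b ∈ Q, s * b * s⁻¹ ∈ Q := by
    intro s hs b hb
    exact mem_inf.mpr ⟨mul_mem (mul_mem hs (hQT hb)) (inv_mem hs), E.tt.norm s (hT.le hs) b (mem_inf.mp hb).2⟩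
  obtain ⟨b, hb, hbE, -, hbn⟩ := exists_norm_elt (S := T) (E := (Q ⊓ centralizer ({w} : Set G)) ⊔ zpowers w)
    (B := Q) hT.two (sup_le (inf_le_left.trans hQT) (by rwa [zpowers_le])) hQT hQn (by
      intro h
      obtain ⟨q, hq, hqw⟩ := hne
      have h1 : (Q ⊓ centralizer ({w} : Set G)) ⊔ zpowers w ≤ centralizer ({w} : Set G) :=
        sup_le inf_le_right (by rw [zpowers_le]; exact mem_centralizer_singleton_iff.mpr rfl)
      exact hqw (mem_centralizer_singleton_iff.mp (h1 (h hq))))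
  have hEw : ∀ x ∈ (Q ⊓ centralizer ({w} : Set G)) ⊔ zpowers w, x * w = w * x := by
    intro x hx
    have h1 : (Q ⊓ centralizer ({w} : Set G)) ⊔ zpowers w ≤ centralizer ({w} : Set G) :=
      sup_le inf_le_right (by rw [zpowers_le]; exact mem_centralizer_singleton_iff.mpr rfl)
    exact mem_centralizer_singleton_iff.mp (h1 hx)
  have hbw : b * w ≠ w * b := by
    intro h
    apply hbE
    exact (le_sup_left : _ ≤ (Q ⊓ centralizer ({w} : Set G)) ⊔ zpowers w)
      (mem_inf.mpr ⟨hb, mem_centralizer_singleton_iff.mpr h⟩)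
  have hwE : w ∈ (Q ⊓ centralizer ({w} : Set G)) ⊔ zpowers w :=
    (le_sup_right : zpowers w ≤ _) (mem_zpowers w)
  have h1 := (mem_normalizer_iff.mp hbn w).mp hwE
  have h2 := hEw _ h1
  have hwi : w⁻¹ = w := inv_eq_of_mul_eq_one_left hw2
  set c := b * w * b⁻¹ * w⁻¹ with hc
  have hcQ : c ∈ Q := by
    have h3 := hQn w hwT b⁻¹ (inv_mem hb)
    have e : c = b * (w * b⁻¹ * w⁻¹) := by rw [hc]; group
    rw [e]
    exact mul_mem hb h3
  have hbc : b * w * b⁻¹ = c * w := by rw [hc]; group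
  have hcw : c * w = w * c := by
    rw [hc]
    calc b * w * b⁻¹ * w⁻¹ * w = b * w * b⁻¹ * w * w⁻¹ := by group
      _ = w * (b * w * b⁻¹) * w⁻¹ := by rw [h2]
      _ = w * (b * w * b⁻¹ * w⁻¹) := by group
  have hc2 : c * c = 1 := by
    have h3 : c * w * (c * w) = 1 := by
      rw [← hbc]
      have e : b * w * b⁻¹ * (b * w * b⁻¹) = b * (w * w) * b⁻¹ := by group
      rw [e, hw2]; group
    calc c * c = c * c * (w * w) := by rw [hw2, mul_one]
      _ = c * (c * w) * w := by group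
      _ = c * (w * c) * w := by rw [hcw]
      _ = c * w * (c * w) := by group
      _ = 1 := h3
  have hc1 : c ≠ 1 := by
    intro h
    apply hbw
    rw [hc, mul_inv_eq_one, mul_inv_eq_iff_eq_mul] at h
    exact h
  have hzQ : z ∈ Q := mem_inf.mpr ⟨hzT, hz⟩
  have h4 := E.uniq (hT.two.to_le hQT) inf_le_right hcQ hzQ (ord_of hc2 hc1) hz2
  exact ⟨b, hb, by rw [hbc, h4]⟩

/-- **the outer case** -/
theorem false_of_outer [Finite G] [IsSimpleGroup G] (hna : ∃ a b : G, a * b ≠ b * a) (X : Ax K) {z : G}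
    (hz : z ∈ centralizer (K : Set G)) (hz2 : orderOf z = 2)
    (hni : ∀ g : G, g * z * g⁻¹ ≠ z → g * z * g⁻¹ * z = z * (g * z * g⁻¹) → ¬ Inn K (g * z * g⁻¹)) : False := by
  obtain ⟨g, hne, hc⟩ := Cfsg.Agent.OddHalf.D4.EvenCyc.exists_conj_comm hna hz2
  have hzz := sq_of hz2
  have hz1 := ne_one_of hz2
  set w := g * z * g⁻¹ with hw
  have hw2 : w * w = 1 := by
    rw [hw]
    have e : g * z * g⁻¹ * (g * z * g⁻¹) = g * (z * z) * g⁻¹ := by group
    rw [e, hzz]; group
  have hwi : w⁻¹ = w := inv_eq_of_mul_eq_one_left hw2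
  have hzi : z⁻¹ = z := inv_eq_of_mul_eq_one_left hzz
  have hwN := E.mem_N hz hz2 hc
  -- `v`
  have hgv : g⁻¹ * z * g⁻¹⁻¹ = g⁻¹ * z * g := by rw [inv_inv]
  have hvz : g⁻¹ * z * g * z = z * (g⁻¹ * z * g) := by
    calc g⁻¹ * z * g * z = g⁻¹ * (z * (g * z * g⁻¹)) * g := by group
      _ = g⁻¹ * (w * z) * g := by rw [hc]
      _ = z * (g⁻¹ * z * g) := by rw [hw]; group
  have hvne : g⁻¹ * z * g ≠ z := by
    intro h
    apply hne
    calc g * z * g⁻¹ = g * (g⁻¹ * z * g) * g⁻¹ := by rw [h]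
      _ = z := by group
  set v := g⁻¹ * z * g with hv
  have hzv : z = g * v * g⁻¹ := by rw [hv]; group
  have hvi : ¬ Inn K v := by
    have := hni g⁻¹ (by rw [hgv]; exact hvne) (by rw [hgv]; exact hvz)
    rwa [hgv] at this
  have hwn : ¬ Inn K w := hni g hne hc
  have hvN := E.mem_N hz hz2 hvz
  have hv2 : v * v = 1 := by
    rw [hv]
    have e : g⁻¹ * z * g * (g⁻¹ * z * g) = g⁻¹ * (z * z) * g := by group
    rw [e, hzz]; group
  -- the Sylow subgroup
  obtain ⟨T, hT, hzT, hwT, hQ⟩ := E.exists_Q hz hz2 hw2 hc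
  have hzQ : z ∈ T ⊓ centralizer (K : Set G) := mem_inf.mpr ⟨hzT, hz⟩
  have hex : ∃ q ∈ T ⊓ centralizer (K : Set G), q * w ≠ w * q := by
    by_contra hcon
    push Not at hcon
    exact hvi (E.inn_of_cent X hz hz2 hQ hzQ hcon)
  obtain ⟨y, hy, hyw⟩ := E.exists_y hz hz2 hT hzT hwT hw2 hex
  -- the involution `r`
  obtain ⟨r, hr, hr2, hrv⟩ := E.exists_r hvN hv2
  have hrr := sq_of hr2
  have hr1 := ne_one_of hr2
  have hrz : r * z = z * r := mem_centralizer_iff.mp hz r hr
  have hrnz : r ≠ z := by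
    rintro rfl
    exact E.not_mem hz hz2 hr
  obtain ⟨k, hk, hkv⟩ := X.cj v hvN hv2 hvi r hr hrr hr1 hrv
  -- `r' = r^g`
  have hr'z : g * r * g⁻¹ * z = z * (g * r * g⁻¹) := by
    rw [hzv]
    calc g * r * g⁻¹ * (g * v * g⁻¹) = g * (r * v) * g⁻¹ := by group
      _ = g * (v * r) * g⁻¹ := by rw [hrv]
      _ = g * v * g⁻¹ * (g * r * g⁻¹) := by group
  have hr'w : g * r * g⁻¹ * w = w * (g * r * g⁻¹) := by
    rw [hw]
    calc g * r * g⁻¹ * (g * z * g⁻¹) = g * (r * z) * g⁻¹ := by group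
      _ = g * (z * r) * g⁻¹ := by rw [hrz]
      _ = g * z * g⁻¹ * (g * r * g⁻¹) := by group
  have hr'2 : g * r * g⁻¹ * (g * r * g⁻¹) = 1 := by
    have e : g * r * g⁻¹ * (g * r * g⁻¹) = g * (r * r) * g⁻¹ := by group
    rw [e, hrr]; group
  have hr'1 : g * r * g⁻¹ ≠ 1 := by
    intro h
    apply hr1
    have : r = g⁻¹ * (g * r * g⁻¹) * g := by group
    rw [this, h]; group
  have hr'N := E.mem_N hz hz2 hr'z
  have hr'i : ¬ Inn K (g * r * g⁻¹) := by
    have h1 : g * k * g⁻¹ * z * (g * k * g⁻¹)⁻¹ = g * r * g⁻¹ * z := by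
      rw [hzv]
      calc g * k * g⁻¹ * (g * v * g⁻¹) * (g * k * g⁻¹)⁻¹ = g * (k * v * k⁻¹) * g⁻¹ := by group
        _ = g * (r * v) * g⁻¹ := by rw [hkv]
        _ = g * r * g⁻¹ * (g * v * g⁻¹) := by group
    have h2 := hni (g * k * g⁻¹) (by
      rw [h1]
      intro h
      exact hr'1 (mul_eq_right.mp h)) (by
      rw [h1]
      calc g * r * g⁻¹ * z * z = z * (g * r * g⁻¹) * z := by rw [hr'z]
        _ = z * (g * r * g⁻¹ * z) := by group)
    rw [h1] at h2
    rintro ⟨k', hk', h3⟩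
    apply h2
    refine ⟨k', hk', ?_⟩
    have e : k'⁻¹ * (g * r * g⁻¹ * z) = k'⁻¹ * (g * r * g⁻¹) * z := by group
    rw [e]
    exact mul_mem h3 hz
  -- `r' w` is inner
  have hri : Inn K (g * r * g⁻¹ * w) := by
    rcases X.three _ hr'N w hwN hr'2 hw2 hr'w with h | h | h
    · exact absurd h hr'i
    · exact absurd h hwn
    · exact h
  have ht2 : g * r * g⁻¹ * w * (g * r * g⁻¹ * w) = 1 := by
    calc g * r * g⁻¹ * w * (g * r * g⁻¹ * w) = g * r * g⁻¹ * (w * (g * r * g⁻¹)) * w := by group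
      _ = (g * r * g⁻¹ * (g * r * g⁻¹)) * (w * w) := by rw [← hr'w]; group
      _ = 1 := by rw [hr'2, hw2, one_mul]
  have htz : g * r * g⁻¹ * w * z = z * (g * r * g⁻¹ * w) := by
    calc g * r * g⁻¹ * w * z = g * r * g⁻¹ * (w * z) := by group
      _ = (g * r * g⁻¹ * z) * w := by rw [hc]; group
      _ = z * (g * r * g⁻¹ * w) := by rw [hr'z]; group
  obtain ⟨x, hx, hx2, hdec⟩ := E.exists_dec hz hz2 ht2 htz hri
  have hxz : x * z = z * x := mem_centralizer_iff.mp hz x hx
  have hzw : z * w = w * z := hc.symm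
  -- no element of `K` is conjugate to `z`
  have hfin : ∀ h : G, g * r * g⁻¹ ≠ h * w * h⁻¹ := by
    intro h hh
    have h1 : g⁻¹ * h * g * z * (g⁻¹ * h * g)⁻¹ = r := by
      calc g⁻¹ * h * g * z * (g⁻¹ * h * g)⁻¹ = g⁻¹ * (h * (g * z * g⁻¹) * h⁻¹) * g := by group
        _ = g⁻¹ * (g * r * g⁻¹) * g := by rw [hh]
        _ = r := by group
    have h2 := hni (g⁻¹ * h * g) (by rw [h1]; exact hrnz) (by rw [h1]; exact hrz)
    rw [h1] at h2
    exact h2 ⟨r, hr, by rw [inv_mul_cancel]; exact one_mem _⟩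
  by_cases hx1 : x = 1
  · subst hx1
    rcases hdec with h | h
    · -- `r' = w`
      apply hfin 1
      rw [mul_eq_one_iff_eq_inv, hwi] at h
      rw [h]; group
    · -- `r' = z w`
      rw [one_mul] at h
      apply hvi
      refine ⟨r, hr, ?_⟩
      have h1 : r⁻¹ * v = z := by
        have h2 : z = g * r * g⁻¹ * (g * z * g⁻¹) := h.symm
        calc r⁻¹ * v = r⁻¹ * (g⁻¹ * z * g) := rfl
          _ = r⁻¹ * (g⁻¹ * (g * r * g⁻¹ * (g * z * g⁻¹)) * g) := by rw [← h2]
          _ = z := by group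
      rw [h1]; exact hz
  · have hxw : x * w = w * x := by
      rcases hdec with h | h
      · rw [← h]
        calc g * r * g⁻¹ * w * w = w * (g * r * g⁻¹) * w := by rw [hr'w]
          _ = w * (g * r * g⁻¹ * w) := by group
      · have h1 : x = g * r * g⁻¹ * w * z := by
          rw [h, mul_assoc, hzz, mul_one]
        rw [h1]
        calc g * r * g⁻¹ * w * z * w = g * r * g⁻¹ * w * (z * w) := by group
          _ = (g * r * g⁻¹ * w) * w * z := by rw [hzw]; group
          _ = w * (g * r * g⁻¹) * w * z := by rw [hr'w]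
          _ = w * (g * r * g⁻¹ * w * z) := by group
    obtain ⟨k', hk', hkw⟩ := X.cj w hwN hw2 hwn x hx hx2 hx1 hxw
    rcases hdec with h | h
    · apply hfin k'
      rw [hkw, ← h]
      calc g * r * g⁻¹ = g * r * g⁻¹ * (w * w) := by rw [hw2, mul_one]
        _ = g * r * g⁻¹ * w * w := by group
    · apply hfin (k' * y)
      have h1 : k' * y * w * (k' * y)⁻¹ = k' * (y * w * y⁻¹) * k'⁻¹ := by group
      rw [h1, hyw]
      have hk'z : k' * z = z * k' := mem_centralizer_iff.mp hz k' hk'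
      calc g * r * g⁻¹ = g * r * g⁻¹ * w * w := by rw [mul_assoc (g * r * g⁻¹), hw2, mul_one]
        _ = x * z * w := by rw [h]
        _ = z * (x * w) := by rw [hxz]; group
        _ = z * (k' * w * k'⁻¹) := by rw [hkw]
        _ = (z * k') * w * k'⁻¹ := by group
        _ = k' * (z * w) * k'⁻¹ := by rw [← hk'z]; group

end Ev

end Cfsg.Agent.H2.Bend
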