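import Cfsg.Agent.H2.Bend.AxOf
import Cfsg.Agent.OddHalf.D4.Rk2.Par

/-!
# S3145, piece Quat: the automorphism group of `L₂(q)`, `q` even
-/

set_option autoImplicit false
set_option linter.unusedSectionVars false

namespace Cfsg.Agent.H2.Bend.LTwo

open scoped commutatorElement
open Subgroup Cfsg.Agent.OddHalf.D4.Basic Cfsg.Agent.StdL2.Frame Cfsg.Agent.StdL2.Field
open Cfsg.Agent.StdL2.FrameFT (VV mem_VV up_mem_VV VV_le VV_sq card_VV le_VV ent_ne ent_of_conj conj_up)
open Cfsg.Agent.Lib.SL2Mat Cfsg.Agent.Lib.AutSL2 Cfsg.Agent.StdRank2.OutField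
open Cfsg.Agent.StdL2.FrameFT (exists_fixed)
open Cfsg.Agent.H298.UThree.Act (Amb)

local notation "SL2" => Matrix.SpecialLinearGroup (Fin 2)

universe u

variable {F : Type*} [Field F] [Finite F] [CharP F 2] {A : Type u} [Group A] [Finite A] {I : Subgroup A}
  {π : SL2 F →* A}

/-- if a field involution acts on the root group by `x ↦ c σ(x)`: the elements `t + c σ(t)` -/
theorem exists_tr {σ : F ≃+* F} (h1 : σ ≠ 1) (h2 : σ * σ = 1) {c : F} (hc : c * σ c = 1) {w : F}
    (hw : c * σ w = w) : ∃ t, t + c * σ t = w := by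
  obtain ⟨k, hk0, hk⟩ := exists_fixed h1 h2 hc
  have hc0 : c ≠ 0 := by
    rintro rfl
    rw [zero_mul] at hc
    exact zero_ne_one hc
  have hσk : σ k ≠ 0 := fun h => hk0 (by rwa [map_eq_zero] at h)
  have h3 : σ (w / k) = w / k := by
    rw [map_div₀]
    field_simp
    apply mul_left_cancel₀ hc0
    linear_combination k * hw - w * hk
  obtain ⟨r, hr⟩ := exists_trace h2 h1 h3
  refine ⟨k * r, ?_⟩
  rw [map_mul, ← mul_assoc, hk, ← mul_add, hr]
  field_simp

/-- the field part -/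
noncomputable def ff (a : Amb I) (P : IsPar I π) : A →* (F ≃+* F) :=
  (fld P).comp
    { toFun := fun x => ⟨x, a.mem_norm x⟩
      map_one' := rfl
      map_mul' := fun _ _ => rfl }

theorem exists_acts' (a : Amb I) (P : IsPar I π) (x : A) : ∃ y, Acts π x y (ff a P x) :=
  exists_acts P (a.mem_norm x)

theorem ff_eq_one (a : Amb I) (P : IsPar I π) (x : A) : ff a P x = 1 ↔ x ∈ I := by
  constructor
  · intro h
    obtain ⟨y, hy⟩ := exists_acts' a P x
    rw [h] at hy
    have h1 := hy.inv_mul_mem P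
    have h2 : (π y)⁻¹ * x = 1 := by
      apply a.cent
      intro i hi
      exact (mem_centralizer_iff.mp h1 i hi).symm
    rw [inv_mul_eq_one] at h2
    rw [← h2]
    exact P.mem y
  · intro h
    obtain ⟨s, rfl⟩ := P.exists_eq h
    exact fld_eq P (a.mem_norm _) (acts_pi s)

theorem syl_VV (P : IsPar I π) : IsSyl (VV π) I := by
  refine ⟨?_, VV_le P, fun Q hQ hle hQI => le_VV P hQ hQI hle⟩
  rintro ⟨x, hx⟩
  exact ⟨1, Subtype.ext (by
    show (x : A) ^ 2 ^ 1 = 1
    rw [pow_one, pow_two]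
    exact VV_sq x hx)⟩

theorem exists_conj (P : IsPar I π) {x : A} (hx : x ∈ I) {k : ℕ} (h : x ^ 2 ^ k = 1) :
    ∃ m ∈ I, m * x * m⁻¹ ∈ VV π := by
  have h1 : IsPGroup 2 ↥(zpowers x) := by
    rintro ⟨y, hy⟩
    obtain ⟨j, rfl⟩ := mem_zpowers_iff.mp hy
    refine ⟨k, Subtype.ext ?_⟩
    show (x ^ j) ^ 2 ^ k = 1
    rw [← zpow_natCast, ← zpow_mul, mul_comm, zpow_mul, zpow_natCast, h, one_zpow]
  obtain ⟨m, hm, h2⟩ := (syl_VV P).conj_into h1 (by rwa [zpowers_le])
  exact ⟨m, hm, h2 x (mem_zpowers x)⟩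

/-- 2-elements of `I` are involutions -/
theorem sq_one (P : IsPar I π) {x : A} (hx : x ∈ I) {k : ℕ} (h : x ^ 2 ^ k = 1) : x * x = 1 := by
  obtain ⟨m, -, h1⟩ := exists_conj P hx h
  have h2 := VV_sq _ h1
  have e : m * x * m⁻¹ * (m * x * m⁻¹) = m * (x * x) * m⁻¹ := by group
  rw [e] at h2
  calc x * x = m⁻¹ * (m * (x * x) * m⁻¹) * m := by group
    _ = 1 := by rw [h2]; group

theorem cj_aux (a : Amb I) (P : IsPar I π) {α : A} (h2 : α * α = 1) (hα : α ∉ I) {b : F} (hb : b ≠ 0)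
    (hc : π (up b) * α = α * π (up b)) : ∃ i ∈ I, i * α * i⁻¹ = π (up b) * α := by
  obtain ⟨y, hy⟩ := exists_acts' a P α
  have hσ1 : ff a P α ≠ 1 := fun h => hα ((ff_eq_one a P α).mp h)
  have hσ2 : ff a P α * ff a P α = 1 := by rw [← map_mul, h2, map_one]
  set σ := ff a P α with hσ
  have h3 : α * π (up b) * α⁻¹ = π (up b) := by rw [← hc]; group
  rw [hy, fieldAut_up] at h3
  have h4 := P.inj h3
  have h0 : ent y 1 0 = 0 := ent_of_conj (fun h => hb (by rwa [map_eq_zero] at h)) h4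
  have hact : ∀ c : F, α * π (up c) * α⁻¹ = π (up (ent y 0 0 ^ 2 * σ c)) := by
    intro c
    rw [hy, fieldAut_up, conj_up h0]
  set c0 := ent y 0 0 ^ 2 with hc0
  have h5 : ∀ c : F, c0 * σ (c0 * σ c) = c := by
    intro c
    have h6 : α * (α * π (up c) * α⁻¹) * α⁻¹ = π (up c) := by
      have e : α * (α * π (up c) * α⁻¹) * α⁻¹ = (α * α) * π (up c) * (α * α)⁻¹ := by group
      rw [e, h2]; group
    rw [hact, hact] at h6
    exact up_inj (P.inj h6)
  have h6 : c0 * σ c0 = 1 := by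
    have := h5 1
    rwa [map_one, mul_one] at this
  have h7 : c0 * σ b = b := by
    rw [conj_up h0] at h4
    exact up_inj h4
  obtain ⟨t, ht⟩ := exists_tr hσ1 hσ2 h6 h7
  refine ⟨π (up t), P.mem _, ?_⟩
  have h8 : (π (up t))⁻¹ = π (up t) := inv_eq_of_mul_eq_one_left (VV_sq _ (up_mem_VV t))
  have h9 := hact t
  rw [mul_inv_eq_iff_eq_mul] at h9
  rw [h8, mul_assoc, h9, ← mul_assoc, ← map_mul, up_mul, ht]

/-- **outer elements** -/
theorem out (a : Amb I) (P : IsPar I π) : Out I := by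
  refine ⟨?_, ?_, ?_⟩
  · intro Q _
    rw [commutator_le]
    intro x _ y _
    rw [← ff_eq_one a P, map_commutatorElement, commutatorElement_eq_one_iff_mul_comm]
    exact comm _ _
  · intro x y hx hy hxy
    rw [← ff_eq_one a P, ← ff_eq_one a P, ← ff_eq_one a P]
    by_cases h1 : ff a P x = 1
    · exact Or.inl h1
    by_cases h2 : ff a P y = 1
    · exact Or.inr (Or.inl h2)
    right; right
    have h3 : ff a P x * ff a P x = 1 := by rw [← map_mul, hx, map_one]
    have h4 : ff a P y * ff a P y = 1 := by rw [← map_mul, hy, map_one]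
    rw [map_mul, unique_invol h3 h4 h1 h2, h4]
  · intro α hα2 hα x hx hx2 hx1 hxα
    obtain ⟨m, hm, hmx⟩ := exists_conj P hx (k := 1) (by rw [pow_one, pow_two, hx2])
    obtain ⟨b, hb⟩ := mem_VV.mp hmx
    have hb0 : b ≠ 0 := by
      rintro rfl
      rw [up_zero, map_one] at hb
      apply hx1
      calc x = m⁻¹ * (m * x * m⁻¹) * m := by group
        _ = 1 := by rw [← hb]; group
    obtain ⟨i, hi, h1⟩ := cj_aux a P (α := m * α * m⁻¹) (by
      have e : m * α * m⁻¹ * (m * α * m⁻¹) = m * (α * α) * m⁻¹ := by group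
      rw [e, hα2]; group) (by
      intro h
      apply hα
      have := a.nor m⁻¹ _ h
      have e : m⁻¹ * (m * α * m⁻¹) * m⁻¹⁻¹ = α := by group
      rwa [e] at this) hb0 (by
      rw [hb]
      calc m * x * m⁻¹ * (m * α * m⁻¹) = m * (x * α) * m⁻¹ := by group
        _ = m * (α * x) * m⁻¹ := by rw [hxα]
        _ = m * α * m⁻¹ * (m * x * m⁻¹) := by group)
    rw [hb] at h1
    refine ⟨m⁻¹ * i * m, mul_mem (mul_mem (inv_mem hm) hi) hm, ?_⟩
    calc m⁻¹ * i * m * α * (m⁻¹ * i * m)⁻¹ = m⁻¹ * (i * (m * α * m⁻¹) * i⁻¹) * m := by group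
      _ = m⁻¹ * (m * x * m⁻¹ * (m * α * m⁻¹)) * m := by rw [h1]
      _ = x * α := by group

/-- **2-subgroups with one involution** -/
theorem nr (a : Amb I) (P : IsPar I π) : NR A := by
  intro Q hQ hu x hx y hy
  have := isCyclic (F := F)
  have h1 : ((ff a P).comp Q.subtype).ker ≤ center ↥Q := by
    rintro ⟨p, hp⟩ hpk
    rw [MonoidHom.mem_ker] at hpk
    have hpI : p ∈ I := (ff_eq_one a P p).mp hpk
    obtain ⟨k, hk⟩ := hQ ⟨p, hp⟩
    have hp2 := sq_one P hpI (congrArg Subtype.val hk)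
    rw [mem_center_iff]
    rintro ⟨q, hq⟩
    apply Subtype.ext
    show q * p = p * q
    by_cases hp1 : p = 1
    · rw [hp1, mul_one, one_mul]
    · have h2 := hu (q * p * q⁻¹) (mul_mem (mul_mem hq hp) (inv_mem hq)) p hp (by
        rw [orderOf_conj]; exact ord_of hp2 hp1) (ord_of hp2 hp1)
      rwa [mul_inv_eq_iff_eq_mul] at h2
  have h2 := MonoidHom.isMulCommutative_of_isCyclic_of_ker_le_center ((ff a P).comp Q.subtype) h1
  exact congrArg Subtype.val (h2.is_comm.comm ⟨x, hx⟩ ⟨y, hy⟩)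

end Cfsg.Agent.H2.Bend.LTwo
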