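import Cfsg.Agent.H2.Bend.UThree

/-!
# S3145, piece Quat: the inner case for `U₃(q)`
-/

set_option autoImplicit false
set_option linter.unusedSectionVars false

namespace Cfsg.Agent.H2.Bend

open scoped commutatorElement
open Subgroup Cfsg.Agent.OddHalf.D4.Basic
open Cfsg.Agent.H298.UThree (Two Rep im mem_im exists_of_mem_im im_two)
open Cfsg.Agent.H2.Bend.UThree (UA)

universe u

variable {G : Type u} [Group G] [Finite G] {K : Subgroup G} {A : Type u} [Group A] [Finite A]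
  {π : ↥(normalizer (K : Set G)) →* A} {I : Subgroup A}

/-- facts on the Sylow 2-subgroups of `K` -/
structure Ux (K : Subgroup G) : Prop where
  inv : ∀ P : Subgroup G, IsSyl P K → ∀ z ∈ P, z * z = 1 → ∀ s ∈ P, z * s = s * z
  ti : ∀ P : Subgroup G, IsSyl P K → ∀ y ∈ normalizer (K : Set G), ∀ z ∈ P, z ≠ 1 → y * z * y⁻¹ ∈ P →
    ∀ s ∈ P, y * s * y⁻¹ ∈ P
  tor : ∀ P : Subgroup G, IsSyl P K → ∃ c ∈ K, (∃ m, Odd m ∧ c ^ m = 1) ∧ (∀ z ∈ P, z * z = 1 → c * z = z * c) ∧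
    ∀ z ∈ P, z * z = 1 → ∃ s ∈ P, (s * c * s⁻¹ * c⁻¹) * (s * c * s⁻¹ * c⁻¹) = z
  two : ∀ P : Subgroup G, IsSyl P K → ∃ z₁ ∈ P, ∃ z₂ ∈ P, z₁ * z₁ = 1 ∧ z₂ * z₂ = 1 ∧ z₁ ≠ 1 ∧ z₂ ≠ 1 ∧ z₁ ≠ z₂
  sq : ∀ P : Subgroup G, IsSyl P K → ∀ z ∈ P, z * z = 1 → ∃ s ∈ P, s * s = z
  odd : ∀ P : Subgroup G, IsSyl P K → ∀ c ∈ normalizer (K : Set G), (∃ m, Odd m ∧ c ^ m = 1) →
    (∀ s ∈ P, c * s * c⁻¹ ∈ P) → (∀ z ∈ P, z * z = 1 → c * z = z * c) →
    c ∈ centralizer (K : Set G) ∨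
      ∀ s ∈ P, ∃ t ∈ P, ((t * c * t⁻¹ * c⁻¹)⁻¹ * s) * ((t * c * t⁻¹ * c⁻¹)⁻¹ * s) = 1
  cen : ∀ P : Subgroup G, IsSyl P K → ∀ y ∈ normalizer (K : Set G), (∀ s ∈ P, y * s = s * y) →
    y * y ∈ centralizer (K : Set G)

namespace Ev

variable (E : Ev K)

include E

/-- 2-elements of `K ∩ C(K)` -/
theorem w_eq_one {w : G} (hw : w ∈ K) (hwc : w ∈ centralizer (K : Set G)) (h2 : Two w) : w = 1 := by
  obtain ⟨m, hm, h⟩ := E.w1 w hw hwc
  exact h2.eq_one_of_odd hm h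

/-- 2-elements of `K` with the same action -/
theorem eq_of_mul {P : Subgroup G} (hP : IsPGroup 2 ↥P) (hPK : P ≤ K) {x s : G} (hx : Two x) (hs : s ∈ P)
    (h : s⁻¹ * x ∈ centralizer (K : Set G)) (hxK : x ∈ K) : x = s := by
  have h1 : s⁻¹ * x ∈ K := mul_mem (inv_mem (hPK hs)) hxK
  have hc : s * (s⁻¹ * x) = s⁻¹ * x * s := mem_centralizer_iff.mp h s (hPK hs)
  have hc' : s⁻¹ * (s⁻¹ * x) = s⁻¹ * x * s⁻¹ := by
    calc s⁻¹ * (s⁻¹ * x) = s⁻¹ * (s⁻¹ * x * s) * s⁻¹ := by group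
      _ = s⁻¹ * (s * (s⁻¹ * x)) * s⁻¹ := by rw [hc]
      _ = s⁻¹ * x * s⁻¹ := by group
  have h2 : Two (s⁻¹ * x) := by
    refine (Two.of_mem hP (inv_mem hs)).mul hx ?_
    calc s⁻¹ * x = s * (s⁻¹ * (s⁻¹ * x)) := by group
      _ = s * (s⁻¹ * x * s⁻¹) := by rw [hc']
      _ = x * s⁻¹ := by group
  have h3 := E.w_eq_one h1 h h2
  rw [inv_mul_eq_one] at h3
  exact h3.symm

end Ev

section rep

variable (E : Ev K) (r : Rep K π I)

theorem pi_mul {x y : G} (hx : x ∈ normalizer (K : Set G)) (hy : y ∈ normalizer (K : Set G)) :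
    π ⟨x, hx⟩ * π ⟨y, hy⟩ = π ⟨x * y, mul_mem hx hy⟩ := by
  rw [← map_mul]; rfl

theorem pi_inv {x : G} (hx : x ∈ normalizer (K : Set G)) : (π ⟨x, hx⟩)⁻¹ = π ⟨x⁻¹, inv_mem hx⟩ := by
  rw [← map_inv]; rfl

include E r in
theorem eq_one_of_pi {P : Subgroup G} (hP : IsSyl P K) {x : G} (hx : x ∈ P) (hN : x ∈ normalizer (K : Set G))
    (h : π ⟨x, hN⟩ = 1) : x = 1 := by
  rw [r.ker] at h
  exact E.w_eq_one (hP.le hx) h (Two.of_mem hP.two hx)

include E r in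
/-- **the facts for `K`** -/
theorem ux_of_rep (o : UA I) : Ux K := by
  have hle : ∀ {P : Subgroup G}, IsSyl P K → P ≤ normalizer (K : Set G) := fun hP => hP.le.trans le_normalizer
  have mul1 : ∀ {x : G} (hx : x ∈ normalizer (K : Set G)), x * x = 1 → π ⟨x, hx⟩ * π ⟨x, hx⟩ = 1 := by
    intro x hx h
    rw [← map_mul]
    have : (⟨x, hx⟩ * ⟨x, hx⟩ : ↥(normalizer (K : Set G))) = 1 := Subtype.ext h
    rw [this, map_one]
  have ti : ∀ P : Subgroup G, IsSyl P K → ∀ y ∈ normalizer (K : Set G), ∀ z ∈ P, z ≠ 1 → y * z * y⁻¹ ∈ P →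
      ∀ s ∈ P, y * s * y⁻¹ ∈ P := by
    intro P hP y hy z hz hz1 h s hs
    have h1 := o.ti _ (r.im_syl hP) (π ⟨y, hy⟩) _ (mem_im hz (hle hP hz))
      (fun h => hz1 (eq_one_of_pi E r hP hz _ h)) (by
        rw [← map_mul, ← map_inv, ← map_mul]
        exact mem_im h (mul_mem (mul_mem hy (hle hP hz)) (inv_mem hy))) _ (mem_im hs (hle hP hs))
    rw [← map_mul, ← map_inv, ← map_mul] at h1
    obtain ⟨s', hs', hN', h3⟩ := exists_of_mem_im h1
    have h4 := E.eq_of_mul hP.two hP.le ((Two.of_mem hP.two hs).conj y) hs' (r.eq_iff.mp h3)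
      ((mem_normalizer_iff.mp hy s).mp (hP.le hs))
    rw [h4]
    exact hs'
  have two : ∀ P : Subgroup G, IsSyl P K →
      ∃ z₁ ∈ P, ∃ z₂ ∈ P, z₁ * z₁ = 1 ∧ z₂ * z₂ = 1 ∧ z₁ ≠ 1 ∧ z₂ ≠ 1 ∧ z₁ ≠ z₂ := by
    intro P hP
    obtain ⟨a₁, ha₁, a₂, ha₂, h1, h2, h3, h4, h5⟩ := o.two _ (r.im_syl hP)
    obtain ⟨z₁, hz₁, hN₁, rfl⟩ := exists_of_mem_im ha₁
    obtain ⟨z₂, hz₂, hN₂, rfl⟩ := exists_of_mem_im ha₂
    refine ⟨z₁, hz₁, z₂, hz₂, ?_, ?_, ?_, ?_, ?_⟩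
    · rw [pi_mul] at h1
      exact eq_one_of_pi E r hP (mul_mem hz₁ hz₁) _ h1
    · rw [pi_mul] at h2
      exact eq_one_of_pi E r hP (mul_mem hz₂ hz₂) _ h2
    · rintro rfl
      exact h3 (map_one π)
    · rintro rfl
      exact h4 (map_one π)
    · rintro rfl
      exact h5 rfl
  refine ⟨?_, ti, ?_, two, ?_, ?_, ?_⟩
  · intro P hP z hz hz2 s hs
    have h1 := o.inv _ (r.im_syl hP) _ (mem_im hz (hle hP hz)) (mul1 _ hz2) _ (mem_im hs (hle hP hs))
    rw [r.comm_iff] at h1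
    have h2 : z * s * z⁻¹ * s⁻¹ ∈ P := mul_mem (mul_mem (mul_mem hz hs) (inv_mem hz)) (inv_mem hs)
    have h3 := E.w_eq_one (hP.le h2) h1 (Two.of_mem hP.two h2)
    rwa [mul_inv_eq_one, mul_inv_eq_iff_eq_mul] at h3
  · intro P hP
    obtain ⟨c₀, hc₀, ⟨m, hm, hcm⟩, h1, h2⟩ := o.tor _ (r.im_syl hP)
    obtain ⟨c, hc, rfl⟩ := r.exists_mem hc₀
    have hcN : c ∈ normalizer (K : Set G) := le_normalizer hc
    have hcz : ∀ z ∈ P, z * z = 1 → c * z = z * c := by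
      intro z hz hz2
      have h3 := h1 _ (mem_im hz (hle hP hz)) (mul1 _ hz2)
      rw [r.comm_iff] at h3
      have h3' : c * z * c⁻¹ * z⁻¹ ∈ centralizer (K : Set G) := h3
      have h4 : c * z * c⁻¹ * z⁻¹ ∈ K :=
        mul_mem (mul_mem (mul_mem hc (hP.le hz)) (inv_mem hc)) (inv_mem (hP.le hz))
      have h5 : Two (c * z * c⁻¹ * z⁻¹) := by
        refine ((Two.of_sq hz2).conj c).mul (Two.of_sq hz2).inv ?_
        have h6 : z * (c * z * c⁻¹ * z⁻¹) = c * z * c⁻¹ * z⁻¹ * z := mem_centralizer_iff.mp h3' z (hP.le hz)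
        calc c * z * c⁻¹ * z⁻¹ = z⁻¹ * (z * (c * z * c⁻¹ * z⁻¹)) := by group
          _ = z⁻¹ * (c * z * c⁻¹ * z⁻¹ * z) := by rw [h6]
          _ = z⁻¹ * (c * z * c⁻¹) := by group
      have h6 := E.w_eq_one h4 h3' h5
      rwa [mul_inv_eq_one, mul_inv_eq_iff_eq_mul] at h6
    have hcn : ∀ s ∈ P, c * s * c⁻¹ ∈ P := by
      obtain ⟨z, hz, -, -, hz2, -, hz1, -, -⟩ := two P hP
      apply ti P hP c hcN z hz hz1
      rw [hcz z hz hz2, mul_inv_cancel_right]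
      exact hz
    refine ⟨c, hc, ?_, hcz, ?_⟩
    · rw [← map_pow, r.ker] at hcm
      have hcm' : c ^ m ∈ centralizer (K : Set G) := hcm
      obtain ⟨k, hk, h3⟩ := E.w1 _ (pow_mem hc m) hcm'
      exact ⟨m * k, hm.mul hk, by rw [pow_mul, h3]⟩
    · intro z hz hz2
      obtain ⟨s₀, hs₀, h3⟩ := h2 _ (mem_im hz (hle hP hz)) (mul1 _ hz2)
      obtain ⟨s, hs, hsN, rfl⟩ := exists_of_mem_im hs₀
      refine ⟨s, hs, ?_⟩
      have h4 : s * c * s⁻¹ * c⁻¹ ∈ P := by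
        have e : s * c * s⁻¹ * c⁻¹ = s * (c * s⁻¹ * c⁻¹) := by group
        rw [e]
        exact mul_mem hs (hcn _ (inv_mem hs))
      simp only [pi_mul, pi_inv] at h3
      rw [r.eq_iff] at h3
      have h3' : (s * c * s⁻¹ * c⁻¹ * (s * c * s⁻¹ * c⁻¹))⁻¹ * z ∈ centralizer (K : Set G) := h3
      have h5 : (s * c * s⁻¹ * c⁻¹ * (s * c * s⁻¹ * c⁻¹))⁻¹ * z ∈ P := mul_mem (inv_mem (mul_mem h4 h4)) hz
      have h6 := E.w_eq_one (hP.le h5) h3' (Two.of_mem hP.two h5)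
      rwa [inv_mul_eq_one] at h6
  · intro P hP z hz hz2
    obtain ⟨s₀, hs₀, h3⟩ := o.sq _ (r.im_syl hP) _ (mem_im hz (hle hP hz)) (mul1 _ hz2)
    obtain ⟨s, hs, hsN, rfl⟩ := exists_of_mem_im hs₀
    refine ⟨s, hs, ?_⟩
    rw [pi_mul, r.eq_iff] at h3
    have h3' : (s * s)⁻¹ * z ∈ centralizer (K : Set G) := h3
    have h5 : (s * s)⁻¹ * z ∈ P := mul_mem (inv_mem (mul_mem hs hs)) hz
    have h6 := E.w_eq_one (hP.le h5) h3' (Two.of_mem hP.two h5)
    rwa [inv_mul_eq_one] at h6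
  · intro P hP c hcN hodd hcn hcz
    obtain ⟨m, hm, hcm⟩ := hodd
    rcases o.odd _ (r.im_syl hP) (π ⟨c, hcN⟩) ⟨m, hm, by
      rw [← map_pow]
      have : (⟨c, hcN⟩ : ↥(normalizer (K : Set G))) ^ m = 1 := Subtype.ext hcm
      rw [this, map_one]⟩ (by
      intro s₀ hs₀
      obtain ⟨s, hs, hsN, rfl⟩ := exists_of_mem_im hs₀
      rw [← map_mul, ← map_inv, ← map_mul]
      exact mem_im (hcn s hs) (mul_mem (mul_mem hcN hsN) (inv_mem hcN))) (by
      intro z₀ hz₀ hz2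
      obtain ⟨z, hz, hzN, rfl⟩ := exists_of_mem_im hz₀
      rw [pi_mul] at hz2
      have hz2' := eq_one_of_pi E r hP (mul_mem hz hz) _ hz2
      have h3 := hcz z hz hz2'
      rw [← map_mul, ← map_mul]
      congr 1
      exact Subtype.ext h3) with h | h
    · left
      exact (r.ker _).mp h
    · right
      intro s hs
      obtain ⟨t₀, ht₀, h3⟩ := h _ (mem_im hs (hle hP hs))
      obtain ⟨t, ht, htN, rfl⟩ := exists_of_mem_im ht₀
      refine ⟨t, ht, ?_⟩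
      have h4 : t * c * t⁻¹ * c⁻¹ ∈ P := by
        have e : t * c * t⁻¹ * c⁻¹ = t * (c * t⁻¹ * c⁻¹) := by group
        rw [e]
        exact mul_mem ht (hcn _ (inv_mem ht))
      have h5 : (t * c * t⁻¹ * c⁻¹)⁻¹ * s ∈ P := mul_mem (inv_mem h4) hs
      simp only [pi_mul, pi_inv] at h3
      exact eq_one_of_pi E r hP (mul_mem h5 h5) _ h3
  · intro P hP y hy h
    have h3 := o.cen _ (r.im_syl hP) (π ⟨y, hy⟩) (by
      intro s₀ hs₀
      obtain ⟨s, hs, hsN, rfl⟩ := exists_of_mem_im hs₀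
      rw [← map_mul, ← map_mul]
      congr 1
      exact Subtype.ext (h s hs))
    rw [pi_mul] at h3
    exact (r.ker _).mp h3

end rep

/-- 2-elements of `K` centralising an involution of `P` are in `P` -/
theorem Ux.mem (U : Ux K) {P : Subgroup G} (hP : IsSyl P K) {z y : G} (hz : z ∈ P) (hz1 : z ≠ 1) (hy : y ∈ K)
    (h2 : Two y) (hyz : y * z = z * y) : y ∈ P := by
  have hn : ∀ s ∈ P, y * s * y⁻¹ ∈ P := by
    apply U.ti P hP y (le_normalizer hy) z hz hz1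
    rw [hyz, mul_inv_cancel_right]
    exact hz
  have hyN : y ∈ normalizer (P : Set G) := by
    apply Cfsg.Agent.OddHalf.D4.CommConj.mem_normalizer_of_cj_eq
    apply eq_of_le_of_card_ge
    · rintro _ ⟨s, hs, rfl⟩
      exact hn s hs
    · rw [Cfsg.Agent.OddHalf.D4.CommConj.card_cj]
  have h3 : IsPGroup 2 ↥(zpowers y) := by
    obtain ⟨k, hk⟩ := h2
    rintro ⟨x, hx⟩
    obtain ⟨j, rfl⟩ := mem_zpowers_iff.mp hx
    refine ⟨k, Subtype.ext ?_⟩
    show (y ^ j) ^ 2 ^ k = 1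
    rw [← zpow_natCast, ← zpow_mul, mul_comm, zpow_mul, zpow_natCast, hk, one_zpow]
  have h4 : IsPGroup 2 ↥(zpowers y ⊔ P : Subgroup G) := by
    apply IsPGroup.to_sup_of_normal_right' h3 hP.two
    rw [zpowers_le]
    exact hyN
  exact hP.max _ h4 le_sup_right (sup_le (by rwa [zpowers_le]) hP.le)
    ((le_sup_left : zpowers y ≤ _) (mem_zpowers y))

/-- **the inner case for `U₃(q)`** -/
theorem not_inn_U (E : Ev K) (X : Ax K) (U : Ux K) {z : G}
    (hz : z ∈ centralizer (K : Set G)) (hz2 : orderOf z = 2) (g : G) (hne : g * z * g⁻¹ ≠ z)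
    (hc : g * z * g⁻¹ * z = z * (g * z * g⁻¹)) : ¬ Inn K (g * z * g⁻¹) := by
  intro hi
  have hzz := sq_of hz2
  have hz1 := ne_one_of hz2
  have hw2 : g * z * g⁻¹ * (g * z * g⁻¹) = 1 := by
    have e : g * z * g⁻¹ * (g * z * g⁻¹) = g * (z * z) * g⁻¹ := by group
    rw [e, hzz]; group
  have hw1 : g * z * g⁻¹ ≠ 1 := by
    intro h
    apply hz1
    calc z = g⁻¹ * (g * z * g⁻¹) * g := by group
      _ = 1 := by rw [h]; group
  obtain ⟨T, hT, hzT, hwT, hQ⟩ := E.exists_Q hz hz2 hw2 hc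
  have hzQ : z ∈ T ⊓ centralizer (K : Set G) := mem_inf.mpr ⟨hzT, hz⟩
  set Q := T ⊓ centralizer (K : Set G) with hQd
  obtain ⟨x, hx, hx2, hdec⟩ := E.exists_dec hz hz2 hw2 hc hi
  have hzx : x * z = z * x := mem_centralizer_iff.mp hz x hx
  have hx1 : x ≠ 1 := by
    rintro rfl
    rcases hdec with h | h
    · exact hw1 h
    · rw [one_mul] at h; exact hne h
  have hQw : ∀ q ∈ Q, q * (g * z * g⁻¹) = g * z * g⁻¹ * q := by
    intro q hq
    have h1 : x * q = q * x := mem_centralizer_iff.mp (hQ.le hq) x hx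
    have h2 := E.central hQ.two hQ.le hzQ hq hz2
    rcases hdec with h | h
    · rw [h, h1]
    · rw [h]
      calc q * (x * z) = q * x * z := by group
        _ = x * (q * z) := by rw [← h1]; group
        _ = x * z * q := by rw [h2]; group
  have hiv := E.inn_of_cent X hz hz2 hQ hzQ hQw
  have hvz : g⁻¹ * z * g * z = z * (g⁻¹ * z * g) := by
    calc g⁻¹ * z * g * z = g⁻¹ * (z * (g * z * g⁻¹)) * g := by group
      _ = g⁻¹ * (g * z * g⁻¹ * z) * g := by rw [hc]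
      _ = z * (g⁻¹ * z * g) := by group
  have hvne : g⁻¹ * z * g ≠ z := by
    intro h
    apply hne
    calc g * z * g⁻¹ = g * (g⁻¹ * z * g) * g⁻¹ := by rw [h]
      _ = z := by group
  have hv2 : g⁻¹ * z * g * (g⁻¹ * z * g) = 1 := by
    have e : g⁻¹ * z * g * (g⁻¹ * z * g) = g⁻¹ * (z * z) * g := by group
    rw [e, hzz]; group
  have hv1 : g⁻¹ * z * g ≠ 1 := by
    intro h
    apply hz1
    calc z = g * (g⁻¹ * z * g) * g⁻¹ := by group
      _ = 1 := by rw [h]; group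
  obtain ⟨x₁, hx₁, hx₁2, hdec₁⟩ := E.exists_dec hz hz2 hv2 hvz hiv
  have hx₁z : x₁ * z = z * x₁ := mem_centralizer_iff.mp hz x₁ hx₁
  have hx₁1 : x₁ ≠ 1 := by
    rintro rfl
    rcases hdec₁ with h | h
    · exact hv1 h
    · rw [one_mul] at h; exact hvne h
  -- Sylow 2-subgroups of `K`
  have exP : ∀ x ∈ K, x * x = 1 → x ≠ 1 → ∃ P, IsSyl P K ∧ x ∈ P := by
    intro x hx hx2 hx1
    have h1 : IsPGroup 2 ↥(zpowers x) := by
      apply IsPGroup.of_card (n := 1)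
      rw [Nat.card_zpowers, ord_of hx2 hx1, pow_one]
    obtain ⟨P, hP, hle⟩ := exists_isSyl (M := K) h1 (by rwa [zpowers_le])
    exact ⟨P, hP, hle (mem_zpowers x)⟩
  obtain ⟨P, hP, hxP⟩ := exP x hx hx2 hx1
  obtain ⟨P₁, hP₁, hx₁P⟩ := exP x₁ hx₁ hx₁2 hx₁1
  -- commuting with `z` and `w` / with `z` and `v`
  have comm_x : ∀ m : G, m * z = z * m → m * (g * z * g⁻¹) = g * z * g⁻¹ * m → m * x = x * m := by
    intro m h1 h2
    rcases hdec with h | h
    · rwa [h] at h2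
    · have h3 : x = g * z * g⁻¹ * z := by rw [h, mul_assoc, hzz, mul_one]
      rw [h3]
      calc m * (g * z * g⁻¹ * z) = m * (g * z * g⁻¹) * z := by group
        _ = g * z * g⁻¹ * (m * z) := by rw [h2]; group
        _ = g * z * g⁻¹ * z * m := by rw [h1]; group
  have comm_x₁ : ∀ m : G, m * z = z * m → m * (g⁻¹ * z * g) = g⁻¹ * z * g * m → m * x₁ = x₁ * m := by
    intro m h1 h2
    rcases hdec₁ with h | h
    · rwa [h] at h2
    · have h3 : x₁ = g⁻¹ * z * g * z := by rw [h, mul_assoc, hzz, mul_one]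
      rw [h3]
      calc m * (g⁻¹ * z * g * z) = m * (g⁻¹ * z * g) * z := by group
        _ = g⁻¹ * z * g * (m * z) := by rw [h2]; group
        _ = g⁻¹ * z * g * z * m := by rw [h1]; group
  have comm_w : ∀ m : G, m * z = z * m → m * x = x * m → m * (g * z * g⁻¹) = g * z * g⁻¹ * m := by
    intro m h1 h2
    rcases hdec with h | h
    · rw [h, h2]
    · rw [h]
      calc m * (x * z) = m * x * z := by group
        _ = x * (m * z) := by rw [h2]; group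
        _ = x * z * m := by rw [h1]; group
  have comm_v : ∀ m : G, m * z = z * m → m * x₁ = x₁ * m → m * (g⁻¹ * z * g) = g⁻¹ * z * g * m := by
    intro m h1 h2
    rcases hdec₁ with h | h
    · rw [h, h2]
    · rw [h]
      calc m * (x₁ * z) = m * x₁ * z := by group
        _ = x₁ * (m * z) := by rw [h2]; group
        _ = x₁ * z * m := by rw [h1]; group
  -- transport by `g`
  have tr1 : ∀ m : G, m * z = z * m → m * (g * z * g⁻¹) = g * z * g⁻¹ * m →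
      g⁻¹ * m * g * z = z * (g⁻¹ * m * g) ∧ g⁻¹ * m * g * (g⁻¹ * z * g) = g⁻¹ * z * g * (g⁻¹ * m * g) := by
    intro m h1 h2
    constructor
    · calc g⁻¹ * m * g * z = g⁻¹ * (m * (g * z * g⁻¹)) * g := by group
        _ = g⁻¹ * (g * z * g⁻¹ * m) * g := by rw [h2]
        _ = z * (g⁻¹ * m * g) := by group
    · calc g⁻¹ * m * g * (g⁻¹ * z * g) = g⁻¹ * (m * z) * g := by group
        _ = g⁻¹ * (z * m) * g := by rw [h1]
        _ = g⁻¹ * z * g * (g⁻¹ * m * g) := by group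
  have tr2 : ∀ m : G, m * z = z * m → m * (g⁻¹ * z * g) = g⁻¹ * z * g * m →
      g * m * g⁻¹ * z = z * (g * m * g⁻¹) ∧ g * m * g⁻¹ * (g * z * g⁻¹) = g * z * g⁻¹ * (g * m * g⁻¹) := by
    intro m h1 h2
    constructor
    · calc g * m * g⁻¹ * z = g * (m * (g⁻¹ * z * g)) * g⁻¹ := by group
        _ = g * (g⁻¹ * z * g * m) * g⁻¹ := by rw [h2]
        _ = z * (g * m * g⁻¹) := by group
    · calc g * m * g⁻¹ * (g * z * g⁻¹) = g * (m * z) * g⁻¹ := by group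
        _ = g * (z * m) * g⁻¹ := by rw [h1]
        _ = g * z * g⁻¹ * (g * m * g⁻¹) := by group
  -- `P`
  have hPz : ∀ p ∈ P, p * z = z * p := fun p hp => mem_centralizer_iff.mp hz p (hP.le hp)
  have hPx : ∀ p ∈ P, p * x = x * p := fun p hp => (U.inv P hP x hxP hx2 p hp).symm
  have hP₁z : ∀ p ∈ P₁, p * z = z * p := fun p hp => mem_centralizer_iff.mp hz p (hP₁.le hp)
  have hP₁x : ∀ p ∈ P₁, p * x₁ = x₁ * p := fun p hp => (U.inv P₁ hP₁ x₁ hx₁P hx₁2 p hp).symm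
  -- the torus element
  obtain ⟨c, hcK, ⟨m, hm, hcm⟩, hcZ, hcs⟩ := U.tor P hP
  have hcz : c * z = z * c := mem_centralizer_iff.mp hz c hcK
  have hcx : c * x = x * c := hcZ x hxP hx2
  have hcw := comm_w c hcz hcx
  obtain ⟨hc'z, hc'v⟩ := tr1 c hcz hcw
  have hc'x := comm_x₁ _ hc'z hc'v
  have hc'N : g⁻¹ * c * g ∈ normalizer (K : Set G) := E.mem_N hz hz2 hc'z
  have hc'm : (g⁻¹ * c * g) ^ m = 1 := by
    have e := conj_pow (i := m) (a := g⁻¹) (b := c)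
    rw [inv_inv] at e
    rw [e, hcm]; group
  set c' := g⁻¹ * c * g with hc'
  have hcc' : c = g * c' * g⁻¹ := by rw [hc']; group
  have hc'n : ∀ s ∈ P₁, c' * s * c'⁻¹ ∈ P₁ := by
    apply U.ti P₁ hP₁ c' hc'N x₁ hx₁P hx₁1
    rw [hc'x, mul_inv_cancel_right]
    exact hx₁P
  -- (5)
  have five : ∀ s ∈ P₁, s * c' * s⁻¹ * c'⁻¹ ∈ P₁ ∧ g * (s * c' * s⁻¹ * c'⁻¹) * g⁻¹ ∈ P := by
    intro s hs
    have h1 : s * c' * s⁻¹ * c'⁻¹ ∈ P₁ := by
      have e : s * c' * s⁻¹ * c'⁻¹ = s * (c' * s⁻¹ * c'⁻¹) := by group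
      rw [e]
      exact mul_mem hs (hc'n _ (inv_mem hs))
    refine ⟨h1, ?_⟩
    obtain ⟨h2, h3⟩ := tr2 s (hP₁z s hs) (comm_v s (hP₁z s hs) (hP₁x s hs))
    have h4 := E.mem_N hz hz2 h2
    have h5 := comm_x _ h2 h3
    have e : g * (s * c' * s⁻¹ * c'⁻¹) * g⁻¹ = (g * s * g⁻¹) * c * (g * s * g⁻¹)⁻¹ * c⁻¹ := by
      rw [hc']; group
    apply U.mem hP hxP hx1
    · rw [e]
      exact mul_mem ((mem_normalizer_iff.mp h4 c).mp hcK) (inv_mem hcK)
    · exact (Two.of_mem hP₁.two h1).conj g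
    · rw [e]
      have c1 : Commute (g * s * g⁻¹) x := h5
      have c2 : Commute c x := hcx
      exact (((c1.mul_left c2).mul_left c1.inv_left).mul_left c2.inv_left)
  -- (6)
  have six : ∀ y ∈ P₁, y * y = 1 → c' * y = y * c' := by
    intro y hy hy2
    obtain ⟨h1, h2⟩ := five y hy
    set d := y * c' * y⁻¹ * c'⁻¹ with hd
    have hyi : y⁻¹ = y := inv_eq_of_mul_eq_one_left hy2
    have h3 : y * d = d * y := U.inv P₁ hP₁ y hy hy2 d h1
    have h4 : c' * y⁻¹ * c'⁻¹ = y⁻¹ * d := by rw [hd]; group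
    have hd2 : d * d = 1 := by
      have h5 : y⁻¹ * d * (y⁻¹ * d) = 1 := by
        rw [← h4, hyi]
        have e : c' * y * c'⁻¹ * (c' * y * c'⁻¹) = c' * (y * y) * c'⁻¹ := by group
        rw [e, hy2]; group
      rw [hyi] at h5
      calc d * d = (y * y) * (d * d) := by rw [hy2, one_mul]
        _ = y * (y * d) * d := by group
        _ = y * (d * y) * d := by rw [h3]
        _ = y * d * (y * d) := by group
        _ = 1 := h5
    have h6 : c * (g * d * g⁻¹) = g * d * g⁻¹ * c := by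
      apply hcZ _ h2
      have e : g * d * g⁻¹ * (g * d * g⁻¹) = g * (d * d) * g⁻¹ := by group
      rw [e, hd2]; group
    have h7 : c' * d = d * c' := by
      calc c' * d = g⁻¹ * (c * (g * d * g⁻¹)) * g := by rw [hc']; group
        _ = g⁻¹ * (g * d * g⁻¹ * c) * g := by rw [h6]
        _ = d * c' := by rw [hc']; group
    have h8 : y * c' * y⁻¹ = d * c' := by rw [hd]; group
    have h9 : d ^ m = 1 := by
      have h10 : (y * c' * y⁻¹) ^ m = 1 := by rw [conj_pow, hc'm]; group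
      have h11 : Commute d c' := h7.symm
      rw [h8, h11.mul_pow, hc'm, mul_one] at h10
      exact h10
    have h10 : d = 1 := (Two.of_sq hd2).eq_one_of_odd hm h9
    rw [h10, one_mul, mul_inv_eq_iff_eq_mul] at h8
    exact h8.symm
  -- (7)
  rcases U.odd P₁ hP₁ c' hc'N ⟨m, hm, hc'm⟩ hc'n six with h | h
  · -- `c ∈ C(K)^g`
    obtain ⟨z₁, hz₁, z₂, hz₂, h1, h2, h3, h4, h5⟩ := U.two P hP
    have key : ∀ y ∈ P, y * y = 1 → g⁻¹ * y * g ∈ centralizer (K : Set G) := by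
      intro y hy hy2
      obtain ⟨s, hs, h6⟩ := hcs y hy hy2
      obtain ⟨h7, -⟩ := tr1 s (hPz s hs) (comm_w s (hPz s hs) (hPx s hs))
      have h8 := E.mem_N hz hz2 h7
      have h9 := E.tt.norm _ h8 _ h
      have h10 : g⁻¹ * (s * c * s⁻¹ * c⁻¹) * g ∈ centralizer (K : Set G) := by
        have e : g⁻¹ * (s * c * s⁻¹ * c⁻¹) * g = (g⁻¹ * s * g) * c' * (g⁻¹ * s * g)⁻¹ * c'⁻¹ := by
          rw [hc']; group
        rw [e]
        exact mul_mem h9 (inv_mem h)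
      have h11 : g⁻¹ * y * g = g⁻¹ * (s * c * s⁻¹ * c⁻¹) * g * (g⁻¹ * (s * c * s⁻¹ * c⁻¹) * g) := by
        rw [← h6]; group
      rw [h11]
      exact mul_mem h10 h10
    have ord : ∀ y : G, y * y = 1 → y ≠ 1 → orderOf (g⁻¹ * y * g) = 2 := by
      intro y hy hy1
      have := orderOf_conj g⁻¹ y
      rw [inv_inv] at this
      rw [this]
      exact ord_of hy hy1
    have h6 := E.rk _ (key z₁ hz₁ h1) _ (key z₂ hz₂ h2) (ord z₁ h1 h3) (ord z₂ h2 h4) (by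
      have := U.inv P hP z₁ hz₁ h1 z₂ hz₂
      calc g⁻¹ * z₁ * g * (g⁻¹ * z₂ * g) = g⁻¹ * (z₁ * z₂) * g := by group
        _ = g⁻¹ * (z₂ * z₁) * g := by rw [this]
        _ = g⁻¹ * z₂ * g * (g⁻¹ * z₁ * g) := by group)
    apply h5
    calc z₁ = g * (g⁻¹ * z₁ * g) * g⁻¹ := by group
      _ = g * (g⁻¹ * z₂ * g) * g⁻¹ := by rw [h6]
      _ = z₂ := by group
  · -- `P₁^g ≤ P`
    have dec : ∀ s ∈ P₁, ∃ d ∈ P₁, g * d * g⁻¹ ∈ P ∧ ∃ y ∈ P₁, y * y = 1 ∧ s = d * y := by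
      intro s hs
      obtain ⟨t, ht, h1⟩ := h s hs
      obtain ⟨h2, h3⟩ := five t ht
      refine ⟨_, h2, h3, (t * c' * t⁻¹ * c'⁻¹)⁻¹ * s, mul_mem (inv_mem h2) hs, h1, by group⟩
    have hinv : ∀ y ∈ P₁, y * y = 1 → g * y * g⁻¹ ∈ P := by
      intro y hy hy2
      obtain ⟨s, hs, h1⟩ := U.sq P₁ hP₁ y hy hy2
      obtain ⟨d, hd, hdP, y', hy', hy'2, h2⟩ := dec s hs
      have h3 : y' * d = d * y' := U.inv P₁ hP₁ y' hy' hy'2 d hd
      have h4 : y = d * d := by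
        rw [← h1, h2]
        calc d * y' * (d * y') = d * (y' * d) * y' := by group
          _ = d * (d * y') * y' := by rw [h3]
          _ = d * d * (y' * y') := by group
          _ = d * d := by rw [hy'2, mul_one]
      have e : g * y * g⁻¹ = g * d * g⁻¹ * (g * d * g⁻¹) := by rw [h4]; group
      rw [e]
      exact mul_mem hdP hdP
    have hall : ∀ s ∈ P₁, g * s * g⁻¹ ∈ P := by
      intro s hs
      obtain ⟨d, hd, hdP, y', hy', hy'2, h2⟩ := dec s hs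
      have e : g * s * g⁻¹ = g * d * g⁻¹ * (g * y' * g⁻¹) := by rw [h2]; group
      rw [e]
      exact mul_mem hdP (hinv y' hy' hy'2)
    -- squares of elements of `Q` are in `C(K)^g`
    have hsq : ∀ q ∈ Q, g⁻¹ * (q * q) * g ∈ centralizer (K : Set G) := by
      intro q hq
      have hqz := E.central hQ.two hQ.le hzQ hq hz2
      obtain ⟨h1, -⟩ := tr1 q hqz (hQw q hq)
      have h2 := U.cen P₁ hP₁ _ (E.mem_N hz hz2 h1) (by
        intro s hs
        have h3 : g * s * g⁻¹ * q = q * (g * s * g⁻¹) :=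
          mem_centralizer_iff.mp (hQ.le hq) _ (hP.le (hall s hs))
        calc g⁻¹ * q * g * s = g⁻¹ * (q * (g * s * g⁻¹)) * g := by group
          _ = g⁻¹ * (g * s * g⁻¹ * q) * g := by rw [h3]
          _ = s * (g⁻¹ * q * g) := by group)
      have e : g⁻¹ * q * g * (g⁻¹ * q * g) = g⁻¹ * (q * q) * g := by group
      rwa [e] at h2
    -- some `q² ≠ 1`
    obtain ⟨q, hq, hqq⟩ : ∃ q ∈ Q, q * q ≠ 1 := by
      by_contra hcon
      push Not at hcon
      obtain ⟨a, ha, b, hb, hab⟩ := E.na Q hQ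
      apply hab
      have h1 := hcon _ (mul_mem ha hb)
      have e1 : a⁻¹ = a := inv_eq_of_mul_eq_one_left (hcon a ha)
      have e2 : b⁻¹ = b := inv_eq_of_mul_eq_one_left (hcon b hb)
      have e3 : (a * b)⁻¹ = a * b := inv_eq_of_mul_eq_one_left h1
      rw [mul_inv_rev, e1, e2] at e3
      exact e3.symm
    -- `z` is a power of `q²`
    have hne' : zpowers (q * q) ≠ ⊥ := by
      intro h1
      rw [zpowers_eq_bot] at h1
      exact hqq h1
    obtain ⟨u, hu, hu2⟩ := exists_invol_of_two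
      (hQ.two.to_le (by rw [zpowers_le]; exact mul_mem hq hq : zpowers (q * q) ≤ Q)) hne'
    have huQ : u ∈ Q := by
      have : zpowers (q * q) ≤ Q := by rw [zpowers_le]; exact mul_mem hq hq
      exact this hu
    have huz := E.uniq hQ.two hQ.le huQ hzQ hu2 hz2
    rw [huz] at hu
    obtain ⟨j, hj⟩ := mem_zpowers_iff.mp hu
    have hvC : g⁻¹ * z * g ∈ centralizer (K : Set G) := by
      have e : g⁻¹ * z * g = (g⁻¹ * (q * q) * g) ^ j := by
        have e1 := conj_zpow (i := j) (a := g⁻¹) (b := q * q)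
        rw [inv_inv] at e1
        rw [e1, hj]
      rw [e]
      exact zpow_mem (hsq q hq) j
    have h1 := E.rk _ hvC z hz (ord_of hv2 hv1) hz2 hvz
    exact hvne h1

end Cfsg.Agent.H2.Bend
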