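import Cfsg.Agent.H337.Bend.Iface2
import Cfsg.Agent.OddHalf.D4.Final.Cov
import Cfsg.Agent.OddHalf.D9.RankTwo.RowsD4
import Cfsg.Agent.EvenType.ChevTwo
import Cfsg.Agent.EvenType.CharTwoCent
import Cfsg.Agent.CpAut.TwoAbs
import Cfsg.Agent.S1179
import Cfsg.Agent.S1754
import Cfsg.Agent.H331.SCExc
import Cfsg.Agent.S1163
import Cfsg.Agent.StdSz.OutLie

/-!
# S3145: `RkCov` (2-rank of the centralizer at least two, `2.Sz(8)`, `2².Sz(8)`)
-/

set_option autoImplicit false

namespace Cfsg.Agent.H2.Bend.RkCov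

open Subgroup Cfsg
open Cfsg.Agent.OddHalf.D4
open Cfsg.Agent.OddHalf.D9.RankTwo.StdFalse

universe u

/-- a component of the centralizer of an involution: not in Lie type of characteristic two -/
theorem not_lie {G : Type u} [Group G] [Finite G] [IsSimpleGroup G] (hna : ¬ IsMulCommutative G)
    {K : Subgroup G} (hK : IsStandardSubgroup K)
    {z : G} (hz : orderOf z = 2) (hzK : z ∈ centralizer (K : Set G)) (hl : IsLieTypeChar 2 G) : False := by
  have h1 := EvenType.CharTwoCent.char2_centralizer (EvenType.ChevTwo.charTwo hna (Or.inl hl)) hz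
  exact CpAut.TwoAbs.no_component_of_ct h1 _ (Cfsg.Agent.S1754.result K hK z hz hzK).2

theorem ev_of {G : Type u} [Group G] [Finite G] {K : Subgroup G} (hK : IsStandardSubgroup K)
    (h2 : IsPGroup 2 ↥(center ↥K)) (hcyc : IsCyclic ↥(center ↥K)) (hne : center ↥K ≠ ⊥) :
    ∃ z : G, EvenCyc.Ev K z := by
  obtain ⟨x, hx, hx2⟩ := Basic.exists_invol_of_two (H := center ↥K) h2 hne
  have hmem : ∀ y ∈ K, y ∈ centralizer (K : Set G) → ∀ hy : y ∈ K, (⟨y, hy⟩ : ↥K) ∈ center ↥K := by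
    intro y hyK hy hy'
    rw [mem_center_iff]
    intro k
    exact Subtype.ext (mem_centralizer_iff.mp hy k k.2)
  refine ⟨x, hK, x.2, ?_, ?_, ?_⟩
  · rw [mem_centralizer_iff]
    intro k hk
    exact congrArg Subtype.val (mem_center_iff.mp hx ⟨k, hk⟩)
  · rw [← hx2]
    exact Subgroup.orderOf_coe x
  · intro y hyK hy hy2
    have h1 := hmem y hyK hy hyK
    have h3 : orderOf (⟨⟨y, hyK⟩, h1⟩ : ↥(center ↥K)) = 2 := by
      rw [← Subgroup.orderOf_coe, ← Subgroup.orderOf_coe]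
      exact hy2
    have h4 : orderOf (⟨x, hx⟩ : ↥(center ↥K)) = 2 := by
      rw [← Subgroup.orderOf_coe]
      exact hx2
    exact congrArg (fun a : ↥(center ↥K) => ((a : ↥K) : G)) (EvenCyc.eq_of_cyclic h3 h4)

/-- **`RkCov`** -/
theorem rkCov : Cfsg.Agent.H337.Bend.RkCov.{u} := by
  intro G _ _ _ K hK F i1 i2 hF he h2 hne hrk
  obtain ⟨e⟩ := he
  have hp : _root_.commutator ↥K = ⊤ := (show Group.IsPerfect ↥K from hK.1.1).commutator_eq_top
  have hF' : Fintype.card F = 2 ^ (2 * 1 + 1) := by rw [hF]; norm_num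
  have hX : Cfsg.Agent.OddHalf.D9.Cut.XSz (↥K ⧸ center ↥K) := ⟨F, i1, i2, 1, le_rfl, hF', ⟨e⟩⟩
  have hna : ¬ IsMulCommutative G := by
    intro h
    refine SignalizersComponents.Components.quasisimple_not_isMulCommutative hK.1 ⟨⟨fun a b => Subtype.ext ?_⟩⟩
    exact h.is_comm.comm (a : G) b
  by_cases hcyc : IsCyclic ↥(center ↥K)
  · obtain ⟨z, E⟩ := ev_of hK h2 hcyc hne
    have h := EvenSzRow.facts hp h2 hcyc hne hX
    exact hrk (EvenCyc.main E h.1 h.2)
  obtain ⟨π, P, B⟩ := GH.Cov.SzCover.exists_base le_rfl hF' e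
  obtain ⟨x, hx, hx2⟩ := Basic.exists_invol_of_two (H := center ↥K) h2 hne
  have hxo : orderOf (x : G) = 2 := by
    rw [← hx2]
    exact Subgroup.orderOf_coe x
  have hxC : (x : G) ∈ centralizer (K : Set G) := by
    rw [mem_centralizer_iff]
    intro k hk
    exact congrArg Subtype.val (mem_center_iff.mp hx ⟨k, hk⟩)
  have h13 : 13 ∣ Nat.card G := by
    have h1 : 13 ∣ Nat.card (↥K ⧸ center ↥K) := by
      have h3 : Nat.card ↥(Lie.Sz F (2 ^ (1 + 1))) = 29120 := by
        rw [(Cfsg.Agent.S1163.result le_rfl hF').1]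
        norm_num
      rw [Nat.card_congr e.toEquiv, show Nat.card ↥(Lie.Sz F 4) = 29120 from h3]
      decide
    exact (h1.trans (card_quotient_dvd_card _)).trans (card_subgroup_dvd_card K)
  refine Cfsg.Agent.OddHalf.D9.RankTwo.StdFalse.standard_false (fun A hA hA1 hwc => ?_) hK (Z := omg K) ?_
    (normalizer_le K) (fun x hx => hx.2.2) ?_ (gamma_of_inner ?_ ?_)
  · rcases Cfsg.Agent.S1179.result hna A hA hA1 hwc with ⟨n, F', j1, j2, hn, hc, ⟨f⟩⟩ | h | ⟨F', j1, j2, q, hq, he, h4, ⟨f⟩⟩ |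
      ⟨n, h6, h9, ⟨f⟩⟩ | h | h | h | h
    · refine not_lie hna hK hxo hxC (Or.inl ⟨F', j1, j2, hc, n, hn, ?_, ⟨f⟩⟩)
      rintro rfl
      by_contra hlt
      have h4 : Nat.card G ∣ Nat.card (Matrix.GeneralLinearGroup (Fin 2) F') := by
        rw [Nat.card_congr f.toEquiv]
        refine (card_quotient_dvd_card _).trans ?_
        exact card_dvd_of_injective (Matrix.SpecialLinearGroup.toGL (n := Fin 2) (R := F'))
          (fun a b hab => by
            apply Subtype.ext
            exact congrArg (fun y : Matrix.GeneralLinearGroup (Fin 2) F' => (y : Matrix (Fin 2) (Fin 2) F')) hab)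
      rw [Matrix.card_GL_field, Fin.prod_univ_two] at h4
      have h5 : 1 < Fintype.card F' := Fintype.one_lt_card
      have h6 : Fintype.card F' = 2 ∨ Fintype.card F' = 3 := by omega
      rcases h6 with h6 | h6 <;> rw [h6] at h4 <;> exact absurd (h13.trans h4) (by decide)
    · exact not_lie hna hK hxo hxC (Or.inr (Or.inr (Or.inr (Or.inr (Or.inr (Or.inr (Or.inr (Or.inr
        (Or.inl ⟨rfl, Cfsg.Agent.H331.SCExc.isoSuzuki_of_isSuzuki h⟩)))))))))
    · have h2F : CharP F' 2 := Cfsg.Agent.StdSz.OutLie.charP_two_of_even (by rw [hq]; exact he.pow_of_ne_zero two_ne_zero)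
      exact not_lie hna hK hxo hxC (Or.inr (Or.inr (Or.inl ⟨F', j1, j2, h2F, 3, q, hq, le_rfl, by omega, ⟨f⟩⟩)))
    · have h10 : n.factorial = 2 * Nat.card G := by
        have : Nontrivial (Fin n) := Fin.nontrivial_iff_two_le.2 (by omega)
        have h := two_mul_nat_card_alternatingGroup (α := Fin n)
        rw [Nat.card_congr f.toEquiv, h, Nat.card_perm, Nat.card_fin]
      have h11 : 13 ∣ n.factorial := by rw [h10]; exact Dvd.dvd.mul_left h13 2
      have h12 := (Nat.Prime.dvd_factorial (by norm_num)).1 h11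
      omega
    · rw [h.2] at h13; omega
    · rw [h.2] at h13; omega
    · rw [h.2] at h13; omega
    · rw [h.2] at h13; omega
  · intro x hx
    rw [mem_centralizer_iff]
    exact fun k hk => hx.2.1 k hk
  · rw [card_omg, Cfsg.Agent.OddHalf.D9.RankTwo.SzRow.card_ker]
    exact Cfsg.Agent.OddHalf.D9.RankTwo.SzGamma.card_omega B hp h2 le_rfl hcyc
  · intro u hu huu _
    obtain ⟨a, ha⟩ := StdSz.CoverD.exists_inner hp le_rfl hF' e hu (k := 1) (by rw [pow_one, pow_two, huu])
    refine ⟨a, a.2, (a : G)⁻¹ * u, mem_centralizer_iff.mpr fun x hx => (ha x hx).symm, by group⟩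
  · intro k1 k2 h1 h2' h12 n1 n2 n12
    exact Cfsg.Agent.OddHalf.D9.RankTwo.SzGamma.gamma hp h2 hcyc le_rfl hF' e h1 h2' h12 n1 n2 n12

end Cfsg.Agent.H2.Bend.RkCov
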