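import Cfsg.Agent.H2.Bend.AxOf
import Cfsg.Agent.StdU3.Outer
import Cfsg.Agent.StdU3.OuterA

/-!
# S3145, piece Quat: the automorphism group of `U₃(q)`, `q` even
-/

set_option autoImplicit false
set_option linter.unusedSectionVars false

namespace Cfsg.Agent.H2.Bend.UThree

open scoped commutatorElement
open Subgroup Cfsg.Agent.LieRecognition Cfsg.Agent.LieRecognition.HermHeis Cfsg.Agent.StdU3.URel
  Cfsg.Agent.StdU3.FieldAut Cfsg.Agent.StdU3.Field Cfsg.Agent.StdU3.Semi Cfsg.Agent.OddHalf.D4.Basic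
open Cfsg.Agent.OddHalf.D4.CommConj (cj mem_cj cj_mul card_cj cj_eq_of_mem_normalizer mem_normalizer_of_cj_eq
  mem_cj_mul)
open Cfsg.Agent.OddHalf.D4.U3.ParDefs Cfsg.Agent.OddHalf.D4.U3.Torus
open Cfsg.Agent.H298.UThree (Two)
open Cfsg.Agent.H298.UThree.Act (Amb sl_mul two_tau)
open Cfsg.Agent.StdU3.Outer (exists_N_line exists_coboundary)
open Cfsg.Agent.StdU3.OuterA (eq_one_or_bar)

universe u v

variable {A : Type u} [Group A] [Finite A] {F : Type v} [Field F] [Fintype F] [CharP F 2] {σ : F →+* F}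
  [hσ : Fact (∀ x, σ (σ x) = x)] {n : ℕ} {I : Subgroup A}

/-- the field automorphism of a commutator is trivial -/
theorem sl_comm (p : Par I σ n) {x y : A} (hx : cj x p.S = p.S) (hy : cj y p.S = p.S) :
    ∃ c, SL p.u (⊥ : Subgroup A) (x * y * x⁻¹ * y⁻¹) c 1 := by
  have hinv : ∀ {x : A}, cj x p.S = p.S → cj x⁻¹ p.S = p.S := by
    intro x hx
    have h6 : cj x⁻¹ (cj x p.S) = p.S := by
      rw [← cj_mul, inv_mul_cancel]
      ext x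
      rw [mem_cj]; simp
    rwa [hx] at h6
  obtain ⟨c, -, τ, h1⟩ := exists_sl p hx
  obtain ⟨d, -, υ, h2⟩ := exists_sl p hy
  obtain ⟨c', -, τ', h3⟩ := exists_sl p (hinv hx)
  obtain ⟨d', -, υ', h4⟩ := exists_sl p (hinv hy)
  have e1 : τ * τ' = 1 := by
    have := sl_mul p h1 h3
    rw [mul_inv_cancel] at this
    exact (this.unique p.hS (pw_bot p) SL.one).2
  have e2 : υ * υ' = 1 := by
    have := sl_mul p h2 h4
    rw [mul_inv_cancel] at this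
    exact (this.unique p.hS (pw_bot p) SL.one).2
  have h5 := sl_mul p (sl_mul p (sl_mul p h1 h2) h3) h4
  have e3 : τ * υ * τ' * υ' = 1 := by
    calc τ * υ * τ' * υ' = τ * (υ * τ') * υ' := by group
      _ = τ * (τ' * υ) * υ' := by rw [comm υ τ']
      _ = (τ * τ') * (υ * υ') := by group
      _ = 1 := by rw [e1, e2, one_mul]
  rw [e3] at h5
  exact ⟨_, h5⟩

theorem comm_le (a : Amb I) (p : Par I σ n) (P : Subgroup A) (hP : IsPGroup 2 ↥P) : ⁅P, P⁆ ≤ I := by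
  obtain ⟨g, hg, h⟩ := a.exists_norm p hP
  rw [commutator_le]
  intro x hx y hy
  rw [commutatorElement_def]
  obtain ⟨c, hc⟩ := sl_comm p (h x hx) (h y hy)
  have e : g * x * g⁻¹ * (g * y * g⁻¹) * (g * x * g⁻¹)⁻¹ * (g * y * g⁻¹)⁻¹ = g * (x * y * x⁻¹ * y⁻¹) * g⁻¹ := by
    group
  rw [e] at hc
  have h2 : Two (g * (x * y * x⁻¹ * y⁻¹) * g⁻¹) :=
    (Two.of_mem hP (mul_mem (mul_mem (mul_mem hx hy) (inv_mem hx)) (inv_mem hy))).conj g
  have h3 := a.nor g⁻¹ _ (p.S_le (a.mem_of_sl_two p hc h2))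
  have e2 : g⁻¹ * (g * (x * y * x⁻¹ * y⁻¹) * g⁻¹) * g⁻¹⁻¹ = x * y * x⁻¹ * y⁻¹ := by group
  rwa [e2] at h3

theorem cj_aux (a : Amb I) (p : Par I σ n) {α z : A} (h2 : α * α = 1) (hα : α ∉ I) (hz : z ∈ p.Z) (hz1 : z ≠ 1)
    (hc : z * α = α * z) : ∃ i ∈ I, i * α * i⁻¹ = z * α := by
  have hαi : α⁻¹ = α := inv_eq_of_mul_eq_one_left h2
  have hS : cj α p.S = p.S := by
    apply a.ti p (p.Z_le_S hz) hz1
    rw [← hc, mul_inv_cancel_right]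
    exact p.Z_le_S hz
  obtain ⟨c, hc0, τ, hsl⟩ := exists_sl p hS
  have h3 := sl_mul p hsl hsl
  rw [h2] at h3
  obtain ⟨h4, h5⟩ := h3.unique p.hS (pw_bot p) SL.one
  have hτ1 : τ ≠ 1 := by
    rintro rfl
    exact hα (p.S_le (a.mem_of_sl_two p hsl (Two.of_sq h2)))
  have hτ := eq_bar p.hS.hq h5 hτ1
  rw [hτ] at h4 hsl
  have hN : N n c = 1 := by rw [N_def]; exact h4
  obtain ⟨y, hy, rfl⟩ := hz
  have hyb : bar n y.b = y.b := by rw [← p.hS.eq]; exact b_fixed_of_a_eq_zero hy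
  obtain ⟨s, hs, hNs⟩ := exists_N_line p.hS.hq hN hyb
  obtain ⟨r, hr⟩ := exists_coboundary p.hS.hq hN hs
  obtain ⟨x, hx⟩ := exists_a p.hS r
  obtain ⟨x', h6, h7⟩ := sl_bot hsl x
  rw [hx, barE_apply] at h7
  -- `m = u⁻¹ α u α⁻¹`
  have hm : (p.u x)⁻¹ * (α * p.u x * α⁻¹) = p.u (x⁻¹ * x') := by rw [h6, map_mul, map_inv]
  have hma : (x⁻¹ * x').a = s := by rw [mul_a, inv_a, hx, h7, hr]
  set m := p.u (x⁻¹ * x') with hmd
  have hm2 : m * m = p.u y := by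
    rw [hmd, ← map_mul]
    congr 1
    apply ext_z (sq_a _) hy
    rw [sq_b, hma, p.hS.eq, ← hNs, N_def]
  have h8 : α * m * α⁻¹ = m⁻¹ := by
    rw [← hm]
    calc α * ((p.u x)⁻¹ * (α * p.u x * α⁻¹)) * α⁻¹ = α * (p.u x)⁻¹ * α * p.u x * (α⁻¹ * α⁻¹) := by group
      _ = α * (p.u x)⁻¹ * α⁻¹ * p.u x := by rw [hαi, h2, mul_one]
      _ = ((p.u x)⁻¹ * (α * p.u x * α⁻¹))⁻¹ := by group
  refine ⟨m, p.S_le (p.u_mem _), ?_⟩
  have h9 : α * m⁻¹ = m * α := by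
    rw [← h8]
    calc α * (α * m * α⁻¹) = (α * α) * m * α⁻¹ := by group
      _ = m * α := by rw [h2, one_mul, hαi]
  rw [mul_assoc, h9, ← mul_assoc, hm2]

/-- **outer elements** -/
theorem out (a : Amb I) (p : Par I σ n) : Out I := by
  refine ⟨comm_le a p, fun x y hx hy hxy => a.inner_three' p hx hy hxy, ?_⟩
  intro α hα2 hα x hx hx2 hx1 hxα
  obtain ⟨m, hm, hmx⟩ := p.exists_conj_mem_Z hx hx2
  obtain ⟨i, hi, h1⟩ := cj_aux a p (α := m * α * m⁻¹) (z := m * x * m⁻¹) (by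
    have e : m * α * m⁻¹ * (m * α * m⁻¹) = m * (α * α) * m⁻¹ := by group
    rw [e, hα2]; group) (by
    intro h
    apply hα
    have := a.nor m⁻¹ _ h
    have e : m⁻¹ * (m * α * m⁻¹) * m⁻¹⁻¹ = α := by group
    rwa [e] at this) hmx (by
    intro h
    apply hx1
    calc x = m⁻¹ * (m * x * m⁻¹) * m := by group
      _ = 1 := by rw [h]; group) (by
    calc m * x * m⁻¹ * (m * α * m⁻¹) = m * (x * α) * m⁻¹ := by group
      _ = m * (α * x) * m⁻¹ := by rw [hxα]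
      _ = m * α * m⁻¹ * (m * x * m⁻¹) := by group)
  refine ⟨m⁻¹ * i * m, mul_mem (mul_mem (inv_mem hm) hi) hm, ?_⟩
  calc m⁻¹ * i * m * α * (m⁻¹ * i * m)⁻¹ = m⁻¹ * (i * (m * α * m⁻¹) * i⁻¹) * m := by group
    _ = m⁻¹ * (m * x * m⁻¹ * (m * α * m⁻¹)) * m := by rw [h1]
    _ = x * α := by group

/-- facts on the Sylow 2-subgroups of `I` -/
structure UA (I : Subgroup A) : Prop where
  inv : ∀ T : Subgroup A, IsSyl T I → ∀ z ∈ T, z * z = 1 → ∀ s ∈ T, z * s = s * z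
  ti : ∀ T : Subgroup A, IsSyl T I → ∀ y : A, ∀ z ∈ T, z ≠ 1 → y * z * y⁻¹ ∈ T → ∀ s ∈ T, y * s * y⁻¹ ∈ T
  tor : ∀ T : Subgroup A, IsSyl T I → ∃ c ∈ I, (∃ m, Odd m ∧ c ^ m = 1) ∧ (∀ z ∈ T, z * z = 1 → c * z = z * c) ∧
    ∀ z ∈ T, z * z = 1 → ∃ s ∈ T, (s * c * s⁻¹ * c⁻¹) * (s * c * s⁻¹ * c⁻¹) = z
  two : ∀ T : Subgroup A, IsSyl T I → ∃ z₁ ∈ T, ∃ z₂ ∈ T, z₁ * z₁ = 1 ∧ z₂ * z₂ = 1 ∧ z₁ ≠ 1 ∧ z₂ ≠ 1 ∧ z₁ ≠ z₂
  sq : ∀ T : Subgroup A, IsSyl T I → ∀ z ∈ T, z * z = 1 → ∃ s ∈ T, s * s = z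
  odd : ∀ T : Subgroup A, IsSyl T I → ∀ c : A, (∃ m, Odd m ∧ c ^ m = 1) → (∀ s ∈ T, c * s * c⁻¹ ∈ T) →
    (∀ z ∈ T, z * z = 1 → c * z = z * c) →
    c = 1 ∨ ∀ s ∈ T, ∃ t ∈ T, ((t * c * t⁻¹ * c⁻¹)⁻¹ * s) * ((t * c * t⁻¹ * c⁻¹)⁻¹ * s) = 1
  cen : ∀ T : Subgroup A, IsSyl T I → ∀ y : A, (∀ s ∈ T, y * s = s * y) → y * y = 1

/-- the torus part -/
theorem tor_aux (p : Par I σ n) : ∃ c ∈ I, (∃ m, Odd m ∧ c ^ m = 1) ∧ (∀ z ∈ p.Z, c * z = z * c) ∧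
    ∀ z ∈ p.Z, ∃ s ∈ p.S, (s * c * s⁻¹ * c⁻¹) * (s * c * s⁻¹ * c⁻¹) = z := by
  obtain ⟨l, hl, hl1⟩ := p.exists_h0
  have hodd : Odd (2 ^ n + 1) := by
    have h4 := p.hS.hq.hn
    have : n = (n - 1) + 1 := by omega
    rw [this, pow_succ]
    exact ⟨2 ^ (n - 1), by ring⟩
  refine ⟨p.d l, p.d_mem l, ⟨2 ^ n + 1, hodd, ?_⟩, fun z hz => p.d_comm_Z hl hz, ?_⟩
  · have h1 : l ^ (2 ^ n + 1) = 1 := by
      apply Units.ext
      rw [Units.val_pow_eq_pow_val, Units.val_one, ← N_eq_pow, hl]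
    rw [← map_pow, h1, map_one]
  rintro z ⟨y, hy, rfl⟩
  have hyb : bar n y.b = y.b := by rw [← p.hS.eq]; exact b_fixed_of_a_eq_zero hy
  obtain ⟨t, ht⟩ := Cfsg.Agent.StdU3.Field.exists_norm p.hS.hq hyb
  have h0 : (1 : F) + wt σ l ≠ 0 := by
    intro h
    exact hl1 (Cfsg.Agent.StdU3.Field.add_eq_zero.mp h).symm
  obtain ⟨x, hx⟩ := exists_a p.hS (t / (1 + wt σ l))
  have e1 : p.u x * p.d l * (p.u x)⁻¹ * (p.d l)⁻¹ = p.u (x * (act l x)⁻¹) := by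
    rw [map_mul, map_inv, ← p.d_u]
    group
  refine ⟨p.u x, p.u_mem x, ?_⟩
  rw [e1, ← map_mul]
  congr 1
  apply ext_z (sq_a _) hy
  have h1 : (x * (act l x)⁻¹).a = t := by
    rw [mul_a, inv_a, act_a, hx]
    field_simp
  rw [sq_b, h1, p.hS.eq, ← ht, N_def]

/-- elements of odd order -/
theorem odd_aux (a : Amb I) (p : Par I σ n) {c : A} (hodd : ∃ m, Odd m ∧ c ^ m = 1) (hS : cj c p.S = p.S)
    (hZ : ∀ z ∈ p.Z, c * z = z * c) :
    c = 1 ∨ ∀ s ∈ p.S, ∃ t ∈ p.S, ((t * c * t⁻¹ * c⁻¹)⁻¹ * s) * ((t * c * t⁻¹ * c⁻¹)⁻¹ * s) = 1 := by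
  obtain ⟨m, hm, hcm⟩ := hodd
  obtain ⟨e, he0, τ, hsl⟩ := exists_sl p hS
  -- `N(e τ a) = N a`
  have h1 : ∀ b : F, N n (e * τ b) = N n b := by
    intro b
    obtain ⟨x, hx⟩ := exists_a p.hS b
    obtain ⟨x', h2, h3⟩ := sl_bot hsl x
    have h4 : p.u (x' * x') = p.u (x * x) := by
      rw [map_mul, ← h2]
      have h5 := hZ (p.u (x * x)) (p.u_mem_Z (sq_a x))
      have e1 : c * p.u x * c⁻¹ * (c * p.u x * c⁻¹) = c * p.u (x * x) * c⁻¹ := by rw [map_mul]; group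
      rw [e1, h5, mul_inv_cancel_right]
    have h5 := congrArg Heis.b (p.u_inj h4)
    rw [sq_b, sq_b, h3, hx, p.hS.eq, p.hS.eq] at h5
    rw [N_def, N_def]
    exact h5
  have hNe : N n e = 1 := by
    have := h1 1
    rwa [map_one, mul_one, N_one] at this
  have hfix : ∀ b, bar n b = b → τ b = b := by
    intro b hb
    obtain ⟨x, hx⟩ := Cfsg.Agent.StdU3.Field.exists_norm p.hS.hq hb
    have h2 := h1 x
    rw [N_mul, hNe, one_mul] at h2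
    rw [← hx]
    rw [N_def, bar_def] at h2 ⊢
    rw [map_mul, map_pow]
    rw [N_def, bar_def] at h2
    exact h2
  have hτ : τ = 1 := by
    have h2 : τ * τ = 1 := by
      rcases eq_one_or_bar p.hS.hq τ hfix with h | h
      · rw [h, one_mul]
      · rw [h]
        ext b
        show bar n (bar n b) = b
        exact bar_bar p.hS.hq b
    -- odd power
    obtain ⟨d, hd⟩ := Cfsg.Agent.H298.UThree.Act.sl_pow' p hsl m
    rw [hcm] at hd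
    have h3 := (hd.unique p.hS (pw_bot p) SL.one).2
    obtain ⟨j, rfl⟩ := hm
    rw [pow_succ, pow_mul, pow_two, h2, one_pow, one_mul] at h3
    exact h3
  subst hτ
  by_cases he1 : e = 1
  · left
    subst he1
    have h2 := a.mem_of_sl p hsl
    exact (Two.of_mem p.S_two h2).eq_one_of_odd hm hcm
  · right
    rintro s ⟨x, rfl⟩
    have h0 : (1 : F) + e ≠ 0 := by
      intro h
      exact he1 (Cfsg.Agent.StdU3.Field.add_eq_zero.mp h).symm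
    obtain ⟨x₁, hx₁⟩ := exists_a p.hS (x.a / (1 + e))
    obtain ⟨x', h2, h3⟩ := sl_bot hsl x₁
    refine ⟨p.u x₁, p.u_mem _, ?_⟩
    have e1 : p.u x₁ * c * (p.u x₁)⁻¹ * c⁻¹ = p.u (x₁ * x'⁻¹) := by
      rw [map_mul, map_inv, ← h2]
      group
    rw [e1]
    have h4 : (p.u (x₁ * x'⁻¹))⁻¹ * p.u x = p.u ((x₁ * x'⁻¹)⁻¹ * x) := by
      rw [map_mul p.u (x₁ * x'⁻¹)⁻¹ x, map_inv]
    rw [h4, ← map_mul]
    have h5 : ((x₁ * x'⁻¹)⁻¹ * x).a = 0 := by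
      rw [mul_a, inv_a, mul_a, inv_a, h3, hx₁]
      have : x.a / (1 + e) + e * (x.a / (1 + e)) = x.a := by
        have h6 : x.a / (1 + e) + e * (x.a / (1 + e)) = (1 + e) * (x.a / (1 + e)) := by ring
        rw [h6, mul_div_cancel₀ _ h0]
      have e2 : (1 : F ≃+* F) (x.a / (1 + e)) = x.a / (1 + e) := rfl
      rw [e2, this, Cfsg.Agent.StdU3.Field.add_self]
    rw [(mul_self_eq_one_iff _).mpr h5, map_one]

/-- a third element of `Z` -/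
theorem two_aux (p : Par I σ n) : ∃ z₁ ∈ p.Z, ∃ z₂ ∈ p.Z, z₁ ≠ 1 ∧ z₂ ≠ 1 ∧ z₁ ≠ z₂ := by
  by_contra hcon
  push Not at hcon
  obtain ⟨z, hz, hz1⟩ := p.exists_Z_ne
  have h1 : Nat.card ↥p.Z ≤ 2 := by
    have h2 : (p.Z : Set A) ⊆ {1, z} := by
      intro y hy
      by_cases hy1 : y = 1
      · exact Or.inl hy1
      · right
        exact (hcon z hz y hy hz1 hy1).symm
    have h3 : Nat.card ↥p.Z = Set.ncard (p.Z : Set A) := Nat.card_coe_set_eq _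
    rw [h3]
    refine (Set.ncard_le_ncard h2).trans ?_
    exact (Set.ncard_insert_le _ _).trans (by rw [Set.ncard_singleton])
  rw [p.card_Z] at h1
  have h4 := four_le p.hS.hq
  omega

/-- **the facts on the Sylow 2-subgroups** -/
theorem ua (a : Amb I) (p : Par I σ n) : UA I := by
  have key : ∀ T : Subgroup A, IsSyl T I → ∃ k ∈ I, (∀ x : A, x ∈ T ↔ k * x * k⁻¹ ∈ p.S) ∧
      (∀ x : A, k⁻¹ * x * k ∈ T ↔ x ∈ p.S) := by
    intro T hT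
    obtain ⟨k, hk, hkS⟩ := a.exists_cj p hT
    refine ⟨k, hk, fun x => a.mem_iff_of_cj hkS, fun x => ?_⟩
    rw [a.mem_iff_of_cj hkS]
    have e : k * (k⁻¹ * x * k) * k⁻¹ = x := by group
    rw [e]
  have cs : ∀ (k x : A), k * x * k⁻¹ * (k * x * k⁻¹) = k * (x * x) * k⁻¹ := fun k x => by group
  have cs' : ∀ (k x : A), k⁻¹ * x * k * (k⁻¹ * x * k) = k⁻¹ * (x * x) * k := fun k x => by group
  have one' : ∀ (k x : A), k * x * k⁻¹ = 1 → x = 1 := by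
    intro k x h
    calc x = k⁻¹ * (k * x * k⁻¹) * k := by group
      _ = 1 := by rw [h]; group
  refine ⟨fun T hT z hz hz2 s hs => a.comm_T p hT hz hz2 hs, ?_, ?_, ?_, ?_, ?_, ?_⟩
  · intro T hT y z hz hz1 h s hs
    rw [← a.ti_T p hT hz hz1 h]
    exact mem_cj_mul hs
  · intro T hT
    obtain ⟨k, hk, h1, h2⟩ := key T hT
    obtain ⟨c, hc, ⟨m, hm, hcm⟩, hcZ, hcs⟩ := tor_aux p
    refine ⟨k⁻¹ * c * k, mul_mem (mul_mem (inv_mem hk) hc) hk, ⟨m, hm, ?_⟩, ?_, ?_⟩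
    · have e := conj_pow (i := m) (a := k⁻¹) (b := c)
      rw [inv_inv] at e
      rw [e, hcm]; group
    · intro z hz hz2
      have h3 := hcZ (k * z * k⁻¹) (p.mem_Z_of_sq ((h1 z).mp hz) (by rw [cs, hz2]; group))
      calc k⁻¹ * c * k * z = k⁻¹ * (c * (k * z * k⁻¹)) * k := by group
        _ = k⁻¹ * (k * z * k⁻¹ * c) * k := by rw [h3]
        _ = z * (k⁻¹ * c * k) := by group
    · intro z hz hz2
      obtain ⟨s, hs, h3⟩ := hcs (k * z * k⁻¹) (p.mem_Z_of_sq ((h1 z).mp hz) (by rw [cs, hz2]; group))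
      refine ⟨k⁻¹ * s * k, (h2 s).mpr hs, ?_⟩
      calc k⁻¹ * s * k * (k⁻¹ * c * k) * (k⁻¹ * s * k)⁻¹ * (k⁻¹ * c * k)⁻¹ *
          (k⁻¹ * s * k * (k⁻¹ * c * k) * (k⁻¹ * s * k)⁻¹ * (k⁻¹ * c * k)⁻¹) =
          k⁻¹ * ((s * c * s⁻¹ * c⁻¹) * (s * c * s⁻¹ * c⁻¹)) * k := by group
        _ = z := by rw [h3]; group
  · intro T hT
    obtain ⟨k, hk, h1, h2⟩ := key T hT
    obtain ⟨z₁, hz₁, z₂, hz₂, h3, h4, h5⟩ := two_aux p
    refine ⟨k⁻¹ * z₁ * k, (h2 _).mpr (p.Z_le_S hz₁), k⁻¹ * z₂ * k, (h2 _).mpr (p.Z_le_S hz₂), ?_, ?_, ?_, ?_, ?_⟩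
    · rw [cs', p.Z_sq hz₁]; group
    · rw [cs', p.Z_sq hz₂]; group
    · intro h
      apply h3
      have := one' k⁻¹ z₁ (by rw [inv_inv]; exact h)
      exact this
    · intro h
      apply h4
      have := one' k⁻¹ z₂ (by rw [inv_inv]; exact h)
      exact this
    · intro h
      apply h5
      calc z₁ = k * (k⁻¹ * z₁ * k) * k⁻¹ := by group
        _ = k * (k⁻¹ * z₂ * k) * k⁻¹ := by rw [h]
        _ = z₂ := by group
  · intro T hT z hz hz2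
    obtain ⟨k, hk, h1, h2⟩ := key T hT
    obtain ⟨y, hy, hyz⟩ := p.mem_Z_of_sq ((h1 z).mp hz) (by rw [cs, hz2]; group)
    obtain ⟨x, hx⟩ := exists_sq p.hS hy
    refine ⟨k⁻¹ * p.u x * k, (h2 _).mpr (p.u_mem x), ?_⟩
    rw [cs', ← map_mul, ← hx, ← hyz]; group
  · intro T hT c hodd hcT hcZ
    obtain ⟨k, hk, h1, h2⟩ := key T hT
    obtain ⟨m, hm, hcm⟩ := hodd
    have h3 : cj (k * c * k⁻¹) p.S = p.S := by
      apply eq_of_le_of_card_ge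
      · rintro _ ⟨s, hs, rfl⟩
        show k * c * k⁻¹ * s * (k * c * k⁻¹)⁻¹ ∈ p.S
        have h4 := hcT _ ((h2 s).mpr hs)
        rw [h1] at h4
        have e : k * (c * (k⁻¹ * s * k) * c⁻¹) * k⁻¹ = k * c * k⁻¹ * s * (k * c * k⁻¹)⁻¹ := by group
        rwa [e] at h4
      · rw [card_cj]
    rcases odd_aux a p (c := k * c * k⁻¹) ⟨m, hm, by rw [conj_pow, hcm]; group⟩ h3 (by
      intro z hz
      have h4 := hcZ (k⁻¹ * z * k) ((h2 z).mpr (p.Z_le_S hz)) (by rw [cs', p.Z_sq hz]; group)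
      calc k * c * k⁻¹ * z = k * (c * (k⁻¹ * z * k)) * k⁻¹ := by group
        _ = k * (k⁻¹ * z * k * c) * k⁻¹ := by rw [h4]
        _ = z * (k * c * k⁻¹) := by group) with h | h
    · exact Or.inl (one' k c h)
    · right
      intro s hs
      obtain ⟨t, ht, h4⟩ := h _ ((h1 s).mp hs)
      refine ⟨k⁻¹ * t * k, (h2 t).mpr ht, ?_⟩
      apply one' k
      rw [← h4]
      group
  · intro T hT y hy
    obtain ⟨k, hk, h1, h2⟩ := key T hT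
    have h3 : k * y * k⁻¹ ∈ p.Z := by
      apply a.mem_Z_of_comm p
      intro s hs
      have h4 := hy _ ((h2 s).mpr hs)
      calc k * y * k⁻¹ * s = k * (y * (k⁻¹ * s * k)) * k⁻¹ := by group
        _ = k * (k⁻¹ * s * k * y) * k⁻¹ := by rw [h4]
        _ = s * (k * y * k⁻¹) := by group
    have h4 := p.Z_sq h3
    rw [cs] at h4
    exact one' k _ h4

end Cfsg.Agent.H2.Bend.UThree
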